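import Groth.Agent.L16.HwFun.Minor

/-!
# Existence of functions of dominant weight
-/

set_option autoImplicit false
set_option backward.isDefEq.respectTransparency.types false
set_option linter.unusedSectionVars false
set_option linter.style.haveILetI false
set_option maxHeartbeats 1000000

universe u

open CategoryTheory MonoidalCategory CartesianMonoidalCategory MonObj AlgebraicGeometry
open Groth.L14.RankOne Groth.L14.Chart Groth.L14.Chev Groth.L14.Chev.Cell Groth.L16.Weights
open Groth.L25.Observable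
open scoped TensorProduct LaurentPolynomial

noncomputable section

namespace Groth.L16.HwFun

variable {k : Type u} [Field k] [IsAlgClosed k] {G U U' : Over (Spec (CommRingCat.of k))} [GrpObj G] [GrpObj U]
  [GrpObj U'] {D : Red.SplitRed G} [IsMonHom D.i] {iU' : U' ⟶ G} {iU : U ⟶ G}

/-- Two functions with the same values on a dense set agree. -/
theorem eq_of_cell (hd : Dense iU' D.i iU) {f f' : Γ(G.left, ⊤)}
    (h : ∀ (x : VecGrp.pt k k ⟶ U') (t : VecGrp.pt k k ⟶ D.T) (y : VecGrp.pt k k ⟶ U),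
      val ((x ≫ iU') * (t ≫ D.i) * (y ≫ iU)) f = val ((x ≫ iU') * (t ≫ D.i) * (y ≫ iU)) f') : f = f' :=
  sub_eq_zero.1 (hd _ fun x t y => by rw [val_sub, h x t y, sub_self])

variable [IsAffine G.left] [IsAffine U.left] [Smooth U.hom] [IsAffine U'.left] [Smooth U'.hom] [IsMonHom iU]
  [IsMonHom iU'] {V : Type u} [AddCommGroup V] [Module k V] {ρ : VecGrp.GMod G V} {J : Type u} [Fintype J]
  [DecidableEq J] {e : Module.Basis J k V} {q : J → D.M} (hq : ∀ i, IsWt D (comap ρ D.i) (e i) (q i))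
  (b : D.P.Base)
  (hfaith : ∀ (C : Type u) [CommRing C] [Algebra k C] (g : VecGrp.pt k C ⟶ D.T),
    (∀ v : V, (comap ρ D.i).ρ C g ((1 : C) ⊗ₜ[k] v) = (1 : C) ⊗ₜ[k] v) → g = 1)
  (ha : ∀ L : D.M →+ ℤ, (∀ c ∈ RedSub.posRoots D.P b, 0 < L (D.P.root c)) →
    Attracts ((cocharT D L).map D.i) iU ∧ Attracts ((cocharT D L).map D.i).neg iU')

include hq ha in
theorem exists_phi_fun (lam : D.M →+ ℤ) (hlam : ∀ c ∈ RedSub.posRoots D.P b, 0 ≤ lam (D.P.root c)) :
    ∃ f, CellFun D iU' iU f (phiMap q lam) := by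
  classical
  let rho := rhoH D b
  let R : ℤ := ∑ i, |rho (q i)|
  have hR : ∀ i, |rho (q i)| ≤ R := fun i =>
    Finset.single_le_sum (f := fun i => |rho (q i)|) (fun j _ => abs_nonneg _) (Finset.mem_univ i)
  let K : ℤ := ∑ i, |lam (q i)|
  have hK : ∀ i, |lam (q i)| ≤ K := fun i =>
    Finset.single_le_sum (f := fun i => |lam (q i)|) (fun j _ => abs_nonneg _) (Finset.mem_univ i)
  let N : ℤ := 2 * R + 1
  let L : D.M →+ ℤ := N • lam + rho
  have hR0 : 0 ≤ R := Finset.sum_nonneg fun _ _ => abs_nonneg _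
  have hL : ∀ c ∈ RedSub.posRoots D.P b, 0 < L (D.P.root c) := fun c hc => by
    have h1 := hlam c hc
    have h2 := (rhoH_root D b c).1 hc
    show 0 < N * lam (D.P.root c) + rho (D.P.root c)
    nlinarith
  obtain ⟨hau, hau'⟩ := ha L hL
  -- the thresholds of `lam` are thresholds of `L`
  have hthr : ∀ (n : ℤ) (i : J), n ≤ lam (q i) ↔ N * n - R ≤ L (q i) := by
    intro n i
    have h2 := abs_le.1 (hR i)
    show _ ↔ N * n - R ≤ N * lam (q i) + rho (q i)
    constructor
    · intro h; nlinarith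
    · intro h
      by_contra hlt
      push Not at hlt
      have : lam (q i) + 1 ≤ n := hlt
      nlinarith
  have hn : ∀ n : ℤ, ∃ f, CellFun D iU' iU f (∑ i ∈ Finset.univ.filter (fun i => n ≤ lam (q i)), q i) := fun n =>
    exists_minor hq hau hau' _ fun i hi l hl => Finset.mem_filter.2 ⟨Finset.mem_univ l,
      (hthr n l).2 (((hthr n i).1 (Finset.mem_filter.1 hi).2).trans hl.le)⟩
  have hprod : ∀ s : Finset ℤ, ∃ f, CellFun D iU' iU f
      (∑ n ∈ s, ∑ i ∈ Finset.univ.filter (fun i => n ≤ lam (q i)), q i) := by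
    intro s
    induction s using Finset.induction_on with
    | empty => exact ⟨1, by rw [Finset.sum_empty]; exact CellFun.one⟩
    | insert a s hna ih =>
      obtain ⟨f, hf⟩ := ih
      obtain ⟨g, hg⟩ := hn a
      exact ⟨g * f, by rw [Finset.sum_insert hna]; exact hg.mul hf⟩
  obtain ⟨f, hf⟩ := hprod (Finset.Ioc (-K) K)
  obtain ⟨g, hg⟩ := exists_det_inv hq hau hau'
  have hsum : ∑ n ∈ Finset.Ioc (-K) K, ∑ i ∈ Finset.univ.filter (fun i => n ≤ lam (q i)), q i =
      ∑ i, (lam (q i) + K) • q i := by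
    simp only [Finset.sum_filter]
    rw [Finset.sum_comm]
    refine Finset.sum_congr rfl fun i _ => ?_
    have hi := abs_le.1 (hK i)
    rw [← Finset.sum_filter,
      show (Finset.Ioc (-K) K).filter (fun n => n ≤ lam (q i)) = Finset.Ioc (-K) (lam (q i)) by
        ext n; simp only [Finset.mem_filter, Finset.mem_Ioc]; omega,
      Finset.sum_const, Int.card_Ioc, ← natCast_zsmul, Int.toNat_of_nonneg (by omega), sub_neg_eq_add]
  refine ⟨f * g ^ K.toNat, ?_⟩
  have hK0 : 0 ≤ K := Finset.sum_nonneg fun _ _ => abs_nonneg _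
  have h := hf.mul (hg.pow K.toNat)
  rw [hsum, ← natCast_zsmul, Int.toNat_of_nonneg hK0] at h
  convert h using 1
  show ∑ i, lam (q i) • q i = _
  rw [smul_neg, Finset.smul_sum, ← sub_eq_add_neg, ← Finset.sum_sub_distrib]
  exact Finset.sum_congr rfl fun i _ => by rw [add_smul, add_sub_cancel_right]

include hq hfaith ha in
theorem exists_diff (x : D.M) :
    ∃ (w : D.M) (f₁ f₂ : Γ(G.left, ⊤)), CellFun D iU' iU f₁ (x + w) ∧ CellFun D iU' iU f₂ w := by
  classical
  obtain ⟨hau, hau'⟩ := ha (rhoH D b) fun c hc => (rhoH_root D b c).1 hc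
  let Df : D.M → Prop := fun x => ∃ (w : D.M) (f₁ f₂ : Γ(G.left, ⊤)),
    CellFun D iU' iU f₁ (x + w) ∧ CellFun D iU' iU f₂ w
  have hneg : ∀ x, Df x → Df (-x) := fun x ⟨w, f₁, f₂, h1, h2⟩ => ⟨x + w, f₂, f₁, by
    rwa [neg_add_cancel_left], h1⟩
  have hadd : ∀ x y, Df x → Df y → Df (x + y) := fun x y ⟨w, f₁, f₂, h1, h2⟩ ⟨w', g₁, g₂, h1', h2'⟩ =>
    ⟨w + w', f₁ * g₁, f₂ * g₂, by rw [show x + y + (w + w') = (x + w) + (y + w') by abel]; exact h1.mul h1',
      h2.mul h2'⟩
  have h0 : Df 0 := ⟨0, 1, 1, by rw [add_zero]; exact CellFun.one, CellFun.one⟩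
  have hgen : ∀ i, Df (q i) := by
    intro i
    let S := Finset.univ.filter fun l => rhoH D b (q i) < rhoH D b (q l)
    have hi : i ∉ S := fun h => lt_irrefl _ (Finset.mem_filter.1 h).2
    obtain ⟨f₂, h2⟩ := exists_minor hq hau hau' S fun a haS l hl =>
      Finset.mem_filter.2 ⟨Finset.mem_univ l, (Finset.mem_filter.1 haS).2.trans hl⟩
    obtain ⟨f₁, h1⟩ := exists_minor hq hau hau' (insert i S) fun a haS l hl => by
      refine Finset.mem_insert_of_mem (Finset.mem_filter.2 ⟨Finset.mem_univ l, ?_⟩)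
      rcases Finset.mem_insert.1 haS with rfl | h
      · exact hl
      · exact (Finset.mem_filter.1 h).2.trans hl
    exact ⟨∑ l ∈ S, q l, f₁, f₂, by rwa [Finset.sum_insert hi] at h1, h2⟩
  have hx : x ∈ Submodule.span ℤ (Set.range q) := span_weights_eq_top hq hfaith ▸ Submodule.mem_top
  induction hx using Submodule.span_induction with
  | mem y hy => obtain ⟨i, rfl⟩ := hy; exact hgen i
  | zero => exact h0
  | add y z _ _ hy hz => exact hadd y z hy hz
  | smul c y _ hy =>
    induction c using Int.induction_on with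
    | zero => rw [zero_smul]; exact h0
    | succ c ih => rw [add_smul, one_smul]; exact hadd _ _ ih hy
    | pred c ih => rw [sub_smul, one_smul, sub_eq_add_neg]; exact hadd _ _ ih (hneg y hy)

variable [IsDomain Γ(G.left, ⊤)] [IsIntegrallyClosed Γ(G.left, ⊤)] (hd : Dense iU' D.i iU)

include hq hfaith ha hd in
/-- A dominant weight has a function. -/
theorem exists_cellFun (x : D.M) (hx : ∀ j ∈ b.support, 0 ≤ D.P.coroot' j x) :
    ∃ g, CellFun D iU' iU g x := by
  classical
  haveI : Finite D.idx := Finite.of_fintype _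
  obtain ⟨N, lam, hN, hlam⟩ := exists_phi_eq hq hfaith x
  have hsimple : ∀ j ∈ b.support, 0 ≤ lam (D.P.root j) := by
    intro j hj
    have h := two_mul_phi (ρ := ρ) hq rfl j lam
    rw [hlam, ← natCast_zsmul, map_zsmul, smul_eq_mul] at h
    have hs : 0 < ∑ i, D.P.coroot' j (q i) ^ 2 := by
      refine (Finset.sum_nonneg fun i _ => sq_nonneg _).lt_of_ne fun h0 => ?_
      have hi : ∀ i, D.P.coroot' j (q i) = 0 := fun i =>
        sq_eq_zero_iff.1 ((Finset.sum_eq_zero_iff_of_nonneg fun l _ => sq_nonneg _).1 h0.symm i (Finset.mem_univ i))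
      have hle : Submodule.span ℤ (Set.range q) ≤ LinearMap.ker (D.P.coroot' j) :=
        Submodule.span_le.2 (by rintro _ ⟨i, rfl⟩; exact hi i)
      have h2 : D.P.coroot' j (D.P.root j) = 0 := hle (span_weights_eq_top hq hfaith ▸ Submodule.mem_top)
      rw [D.P.root_coroot'_eq_pairing, D.P.pairing_same] at h2
      exact two_ne_zero h2
    have h3 : 0 ≤ (N : ℤ) * D.P.coroot' j x := mul_nonneg (Int.natCast_nonneg N) (hx j hj)
    nlinarith
  have hpos : ∀ c ∈ RedSub.posRoots D.P b, 0 ≤ lam (D.P.root c) := by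
    intro c hc
    have key : ∀ y ∈ AddSubmonoid.closure (D.P.root '' (b.support : Set D.idx)), 0 ≤ lam y := by
      intro y hy
      induction hy using AddSubmonoid.closure_induction with
      | mem z hz => obtain ⟨j, hj, rfl⟩ := hz; exact hsimple j hj
      | zero => rw [map_zero]
      | add z w _ _ hz hw => rw [map_add]; exact add_nonneg hz hw
    exact key _ hc
  obtain ⟨f, hf⟩ := exists_phi_fun hq b ha lam hpos
  rw [hlam] at hf
  obtain ⟨w, f₁, f₂, h1, h2⟩ := exists_diff hq b hfaith ha x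
  have hrel : f * f₂ ^ N = f₁ ^ N := eq_of_cell hd fun p t y => by
    rw [(hf.mul (h2.pow N)) p t y, (h1.pow N) p t y, smul_add]
  obtain ⟨g, hg⟩ := (IsIntegrallyClosed.pow_dvd_pow_iff hN.ne').1 (Dvd.intro_left f hrel)
  refine ⟨g, fun p t y => ?_⟩
  have := h1 p t y
  rw [hg, val_mul, h2 p t y, add_comm x w, chv_add] at this
  exact mul_left_cancel₀ (chv_ne_zero D w t) this

end Groth.L16.HwFun
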