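import Groth.Agent.L16.HwFun.Main

/-!
# The highest weight line of a split connected group
-/

set_option autoImplicit false
set_option backward.isDefEq.respectTransparency.types false
set_option linter.unusedSectionVars false
set_option linter.style.haveILetI false
set_option maxHeartbeats 1600000

universe u

open CategoryTheory MonoidalCategory CartesianMonoidalCategory MonObj AlgebraicGeometry
open Groth.L14.RankOne Groth.L14.Chart Groth.L14.Chev Groth.L14.Chev.Cell Groth.L16.Weights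
open Groth.L25.Observable
open scoped TensorProduct LaurentPolynomial

noncomputable section

namespace Groth.L16.HwFun

variable {k : Type u} [Field k] [IsAlgClosed k] {G : Over (Spec (CommRingCat.of k))} [GrpObj G] [IsAffine G.left]
  [Smooth G.hom] [ConnectedSpace G.left]

/-- A finite faithful module, and normality of the functions. -/
theorem exists_faithful : (IsDomain Γ(G.left, ⊤) ∧ IsIntegrallyClosed Γ(G.left, ⊤)) ∧
    ∃ (V : Type u) (_ : AddCommGroup V) (_ : Module k V) (_ : Module.Finite k V) (ρ : VecGrp.GMod G V),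
      ∀ (C : Type u) [CommRing C] [Algebra k C] (g : VecGrp.pt k C ⟶ G),
        (∀ v : V, ρ.ρ C g ((1 : C) ⊗ₜ[k] v) = (1 : C) ⊗ₜ[k] v) → g = 1 := by
  classical
  obtain ⟨A, _, _, ⟨eG⟩⟩ := Groth.L25.Bridge.exists_hopf G
  let ψ : G ⟶ Sp k A := eG.hom.hom.hom
  haveI : IsMonHom ψ := eG.hom.hom.isMonHom_hom
  haveI : IsIso ψ := ⟨eG.inv.hom.hom, congrArg (fun f => f.hom.hom) eG.hom_inv_id,
    congrArg (fun f => f.hom.hom) eG.inv_hom_id⟩
  haveI : IsIso ψ.left := inferInstanceAs (IsIso ((Over.forget _).map ψ))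
  haveI hft : LocallyOfFiniteType (Sp k A).hom := by
    rw [show (Sp k A).hom = inv ψ.left ≫ G.hom by rw [IsIso.eq_inv_comp, Over.w]]; infer_instance
  haveI : Algebra.FiniteType k A := by
    change LocallyOfFiniteType (Spec.map (CommRingCat.ofHom (algebraMap k A))) at hft
    rwa [HasRingHomProperty.Spec_iff (P := @LocallyOfFiniteType), CommRingCat.hom_ofHom,
      RingHom.finiteType_algebraMap] at hft
  haveI : IsDomain A := Groth.L25.Observable.isDomain ψ
  haveI := Groth.L16.Grosshans.isIntegrallyClosed_coord ψ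
  have hbij : Function.Bijective (fnHom ψ) := ⟨fun a a' h => eq_of_forall_ev ψ fun x => by
    rw [← val_fn, ← val_fn]; exact congrArg (val x) h, fn_surjective ψ⟩
  let eA : A ≃+* Γ(G.left, ⊤) := RingEquiv.ofBijective (fnHom ψ) hbij
  refine ⟨⟨MulEquiv.isDomain A eA.symm.toMulEquiv, IsIntegrallyClosed.of_equiv eA⟩, ?_⟩
  obtain ⟨m, hm, hmpt⟩ := exists_regular ψ (𝟙 G)
  obtain ⟨s, hs⟩ := (inferInstance : Algebra.FiniteType k A).out
  choose W hWfin hWmem hWst using fun a : A => Groth.L16.GeomRed.exists_finite_stable m a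
  let E : Submodule k A := s.sup W
  have hEfin : Module.Finite k E := by
    refine Module.Finite.iff_fg.2 (Submodule.fg_finset_sup s W fun a _ => Module.Finite.iff_fg.1 (hWfin a))
  have hEst : ∀ (g : VecGrp.pt k k ⟶ G), ∀ v ∈ E, ptAct m g v ∈ E := by
    intro g
    show E ≤ E.comap (ptAct m g)
    refine Finset.sup_le fun a ha v hv => ?_
    exact (Finset.le_sup (f := W) ha) (hWst a g v hv)
  obtain ⟨mE, hmE⟩ := exists_restrict m E (Groth.L16.Matsushima.isStable_of_pts m E hEst)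
  refine ⟨E, inferInstance, inferInstance, hEfin, mE, fun C _ _ g hg => ?_⟩
  -- the generators are fixed
  let S : Subalgebra k A :=
    { carrier := {a | m.ρ C g ((1 : C) ⊗ₜ[k] a) = (1 : C) ⊗ₜ[k] a}
      mul_mem' := fun {a a'} (h : _ = _) (h' : _ = _) => by
        show _ = _
        rw [← _root_.mul_one (1 : C), ← Algebra.TensorProduct.tmul_mul_tmul, (hm C g).1, h, h']
      add_mem' := fun {a a'} (h : _ = _) (h' : _ = _) => by
        show _ = _
        rw [TensorProduct.tmul_add, map_add, h, h']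
      algebraMap_mem' := fun r => by
        show _ = _
        rw [Algebra.algebraMap_eq_smul_one, TensorProduct.tmul_smul, ← LinearEquiv.coe_coe,
          LinearMap.map_smul_of_tower, LinearEquiv.coe_coe, ← Algebra.TensorProduct.one_def, (hm C g).2] }
  have hS : S = ⊤ := by
    rw [eq_top_iff, ← hs]
    refine Algebra.adjoin_le fun a ha => ?_
    have hmem : a ∈ E := (Finset.le_sup (f := W) ha) (hWmem a)
    have h := hmE C g ((1 : C) ⊗ₜ[k] ⟨a, hmem⟩)
    rw [hg, LinearMap.baseChange_tmul] at h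
    exact h.symm
  -- evaluation through the counit
  obtain ⟨alg, gen, -, -, hfac⟩ := exists_gen G
  letI := alg
  let ε : A →ₗ[k] k := Coalgebra.counit
  let coef : ∀ (B : Type u) [CommRing B] [Algebra k B], B ⊗[k] A →ₗ[k] B :=
    fun B _ _ => (TensorProduct.rid k B).toLinearMap ∘ₗ ε.lTensor B
  have hnat : ∀ {B B' : Type u} [CommRing B] [Algebra k B] [CommRing B'] [Algebra k B'] (φ : B →ₐ[k] B')
      (z : B ⊗[k] A), φ (coef B z) = coef B' (VecGrp.Wmap φ z) := by
    intro B B' _ _ _ _ φ z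
    induction z using TensorProduct.induction_on with
    | zero => simp
    | add p q hp hq => simp only [map_add, hp, hq]
    | tmul c a => simp [coef, VecGrp.Wmap]
  have hev : ∀ a : A, val g (fn ψ a) = coef C (m.ρ C g ((1 : C) ⊗ₜ[k] a)) := by
    intro a
    have hF : coef _ (m.ρ _ gen ((1 : Γ(G.left, ⊤)) ⊗ₜ[k] a)) = fn ψ a := by
      refine eq_of_forall_val fun γ => ?_
      obtain ⟨φ, hφ, hv⟩ := hfac k γ
      rw [← hv, hnat, m.naturality, hφ, VecGrp.Wmap_tmul, map_one, hmpt, val_fn]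
      show (TensorProduct.rid k k) ((ε.lTensor k) ((1 : k) ⊗ₜ[k] Rt (ev ψ (γ ≫ 𝟙 G)).ofConv a)) = _
      rw [LinearMap.lTensor_tmul, TensorProduct.rid_tmul, smul_eq_mul, _root_.mul_one, Category.comp_id]
      have h1 : ∀ b : A, (ev ψ (1 : VecGrp.pt k k ⟶ G)).ofConv b = ε b := fun b => by
        rw [ev_one]; rfl
      rw [← h1, apply_Rt, ← ev_mul, _root_.one_mul]
    obtain ⟨φ, hφ, hv⟩ := hfac C g
    rw [← hv, ← hF, hnat, m.naturality, hφ, VecGrp.Wmap_tmul, map_one]
  refine ev_injective ψ (WithConv.ext (AlgHom.ext fun a => ?_))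
  have ha : a ∈ S := hS ▸ Algebra.mem_top
  have hone : ev ψ (1 : VecGrp.pt k C ⟶ G) = 1 := ev_one ψ
  rw [← val_fn, hev, show m.ρ C g ((1 : C) ⊗ₜ[k] a) = _ from ha, hone]
  show (TensorProduct.rid k C) ((ε.lTensor C) ((1 : C) ⊗ₜ[k] a)) = algebraMap k C (Coalgebra.counit a)
  rw [LinearMap.lTensor_tmul, TensorProduct.rid_tmul, Algebra.algebraMap_eq_smul_one]

end Groth.L16.HwFun

namespace Groth.L16.HwFun

variable {k : Type u} [Field k] [IsAlgClosed k] {G : Over (Spec (CommRingCat.of k))} [GrpObj G] [IsAffine G.left]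
  [Smooth G.hom] [ConnectedSpace G.left]

/-- The functions of dominant weight and the translate comparing the two unipotent radicals. -/
theorem exists_hw_data (D : Red.SplitRed G) [IsMonHom D.i] (bs : D.P.Base)
    {Bo U : Over (Spec (CommRingCat.of k))} [GrpObj Bo] [GrpObj U] {iB : Bo ⟶ G} (hB : Red.IsBorelOver k iB)
    {u : U ⟶ Bo} (hU : Par.IsUnipotentRadical u) (t : D.T ⟶ Bo) (ht : t ≫ iB = D.i)
    (hpos : ∀ a : D.idx, bs.IsPos a → ∃ v : Red.Ga (Spec (CommRingCat.of k)) ⟶ Bo, v ≫ iB = D.u a) :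
    ∃ (U' : Over (Spec (CommRingCat.of k))) (_ : GrpObj U') (iU' : U' ⟶ G), IsMonHom iU' ∧
      Dense iU' D.i (u ≫ iB) ∧
      (∀ (s : VecGrp.pt k k ⟶ D.T) (y : VecGrp.pt k k ⟶ U),
        ∃ y' : VecGrp.pt k k ⟶ U, (s ≫ D.i) * (y ≫ u ≫ iB) * (s ≫ D.i)⁻¹ = y' ≫ u ≫ iB) ∧
      (∃ g : VecGrp.pt k k ⟶ G,
        (∀ y : VecGrp.pt k k ⟶ U, ∃ x : VecGrp.pt k k ⟶ U', g * (y ≫ u ≫ iB) * g⁻¹ = x ≫ iU') ∧
        ∀ x : VecGrp.pt k k ⟶ U', ∃ y : VecGrp.pt k k ⟶ U, g⁻¹ * (x ≫ iU') * g = y ≫ u ≫ iB) ∧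
      ∀ x : D.M, (∀ j ∈ bs.support, 0 ≤ D.P.coroot' j x) → ∃ f, CellFun D iU' (u ≫ iB) f x := by
  classical
  haveI := hB.1; haveI := hB.2.1; haveI := hB.2.2.1; haveI := hB.2.2.2.1
  haveI := hU.1; haveI := hU.2.1; haveI := hU.2.2.2.1
  haveI : Finite D.idx := Finite.of_fintype _
  haveI : IsAffine Bo.left := isAffine_of_isAffineHom iB.left
  haveI : IsAffine U.left := isAffine_of_isAffineHom u.left
  haveI : Mono iB := Groth.L08.mono_of_closedImmersion iB
  haveI : Mono u := Over.mono_of_mono_left u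
  haveI : Mono D.i := D.maximalTorus.2.1
  obtain ⟨hTa, hTs, -, -, hcomm⟩ := Groth.L08.Borel.torus_props D.maximalTorus.2.2.1
  haveI := hTa; haveI := hTs
  -- the positive system of the given Borel subgroup
  have hBor : Red.IsBorel iB := isBorel_of_isBorelOver hB
  obtain ⟨b', hb'⟩ := Groth.L14.TypeR.exists_base_borel D hBor t ht
  have hroots : {a | ∃ v : Red.Ga (Spec (CommRingCat.of k)) ⟶ Bo, v ≫ iB = D.u a} = RedSub.posRoots D.P bs := by
    refine Set.Subset.antisymm (fun a ha => ?_) fun a ha => hpos a ((Groth.L25.ParabolicSet.isPos_iff_mem D.P bs a).2 ha)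
    by_contra hna
    have h1 : b'.IsPos a := (Groth.L25.ParabolicSet.isPos_iff_mem D.P b' a).2 (hb' ha)
    have hneg : bs.IsPos (D.P.reflectionPerm a a) := by
      haveI := isReduced D.P bs
      by_contra h
      exact hna ((Groth.L25.ParabolicSet.isPos_iff_mem D.P bs a).1
        (not_not.1 fun h' => h ((RootPairing.Base.IsPos.neg_iff_not bs a).2 h')))
    have h2 : b'.IsPos (D.P.reflectionPerm a a) :=
      (Groth.L25.ParabolicSet.isPos_iff_mem D.P b' _).2 (hb' (hpos _ hneg))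
    exact (RootPairing.Base.IsPos.neg_iff_not b' a).1 h2 h1
  obtain ⟨m, e, he⟩ := exists_enum (D := D) {a | ∃ v : Red.Ga (Spec (CommRingCat.of k)) ⟶ Bo, v ≫ iB = D.u a}
  obtain ⟨ψ, hψ⟩ := Groth.L14.TypeR.exists_unip_param D hBor t ht hU e he
  have hep : RedSub.Enumerates (RedSub.posRoots D.P bs) e := hroots ▸ he
  -- the opposite Borel subgroup
  obtain ⟨B', _, iB', tB', hB', htB', hneg⟩ := exists_borel_base D (negBase D.P bs)
  have hBo' : Red.IsBorelOver k iB' := isBorelOver_of_isBorel hB'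
  have hneg' := posRoots_subset_roots D hBo' tB' htB' _ hneg
  haveI := hBo'.1; haveI := hBo'.2.1; haveI := hBo'.2.2.1; haveI := hBo'.2.2.2.1
  haveI : IsAffine B'.left := isAffine_of_isAffineHom iB'.left
  obtain ⟨U', _, u', hU'⟩ := Groth.L14.Luna.exists_unipotentRadical_solvable B' hBo'.2.2.2.2.1
  haveI := hU'.1; haveI := hU'.2.1; haveI := hU'.2.2.2.1
  haveI : IsAffine U'.left := isAffine_of_isAffineHom u'.left
  haveI : Mono iB' := Groth.L08.mono_of_closedImmersion iB'
  haveI : Mono u' := Over.mono_of_mono_left u'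
  obtain ⟨n, e', he'⟩ := exists_enum (D := D) {a | ∃ v : Red.Ga (Spec (CommRingCat.of k)) ⟶ B', v ≫ iB' = D.u a}
  obtain ⟨ψ', hψ'⟩ := Groth.L14.TypeR.exists_unip_param D hB' tB' htB' hU' e' he'
  have hen : RedSub.Enumerates (RedSub.negRoots D.P bs) e' := by
    rw [← posRoots_negBase]
    exact Set.Subset.antisymm hneg hneg' ▸ he'
  have hatt : ∀ L : D.M →+ ℤ, (∀ c ∈ RedSub.posRoots D.P bs, 0 < L (D.P.root c)) →
      Attracts ((cocharT D L).map D.i) (u ≫ iB) ∧ Attracts ((cocharT D L).map D.i).neg (u' ≫ iB') := by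
    intro L hL
    refine ⟨Attracts.congr (attracts_cochar D (u ≫ iB) e he.1 ψ hψ L fun l =>
      hL _ (hep.2 ▸ Set.mem_range_self l)) (cocharT_map D _), ?_⟩
    refine Attracts.congr (attracts_cochar D (u' ≫ iB') e' he'.1 ψ' hψ' (-L) fun l => ?_) ?_
    · have hm : D.P.reflectionPerm (e' l) (e' l) ∈ RedSub.posRoots D.P bs := by
        show D.P.root _ ∈ AddSubmonoid.closure _
        rw [root_neg']
        have h0 : e' l ∈ RedSub.negRoots D.P bs := hen.2 ▸ Set.mem_range_self l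
        exact h0
      have h2 := hL _ hm
      rw [root_neg', map_neg] at h2
      show 0 < -(L (D.P.root (e' l)))
      omega
    · rw [Cochar.neg_map]
      show (cocharT D L).neg.pt ≫ D.i = _
      rw [cocharT_neg]
      rfl
  have hd : Dense (u' ≫ iB') D.i (u ≫ iB) := dense_of_cell D bs hen hep (u ≫ iB) (u' ≫ iB') ψ hψ ψ' hψ'
  refine ⟨U', inferInstance, u' ≫ iB', inferInstance, hd, exists_conj_mem D (iB := iB) hU.2.2.1 t ht, ?_, ?_⟩
  · -- conjugacy
    obtain ⟨g, φ, hφ⟩ := Groth.L08.Borel.exists_borel_conj hB hBo'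
    haveI : IsMonHom (AGF.conjBy g iB) := Groth.L08.Borel.isMonHom_conjBy g iB
    haveI : IsMonHom φ.hom := Groth.L08.Borel.isMonHom_of_comp_mono φ.hom iB' _ hφ
    have hψ₁ : φ.inv ≫ iB = AGF.conjBy g⁻¹ iB' := by
      rw [Iso.inv_comp_eq, Groth.L08.Borel.comp_conjBy, hφ, Groth.L08.Borel.conjBy_conjBy, inv_mul_cancel,
        Groth.L08.Borel.conjBy_one]
    haveI : IsMonHom (AGF.conjBy g⁻¹ iB') := Groth.L08.Borel.isMonHom_conjBy g⁻¹ iB'
    haveI : IsMonHom φ.inv := Groth.L08.Borel.isMonHom_of_comp_mono φ.inv iB _ hψ₁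
    haveI : IsIso φ.hom.left := inferInstanceAs (IsIso ((Over.forget _).map φ.hom))
    haveI : IsIso φ.inv.left := inferInstanceAs (IsIso ((Over.forget _).map φ.inv))
    obtain ⟨-, -, hUn, -, hUc, hUt⟩ := Groth.L14.Luna.unipotentRadical_data hU
    obtain ⟨-, -, hUn', -, hUc', hUt'⟩ := Groth.L14.Luna.unipotentRadical_data hU'
    haveI : QuasiCompact U.hom := hU.2.2.2.2.1
    haveI : QuasiCompact U'.hom := hU'.2.2.2.2.1
    haveI : IsClosedImmersion (u ≫ φ.hom).left := inferInstanceAs (IsClosedImmersion (u.left ≫ φ.hom.left))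
    haveI : IsClosedImmersion (u' ≫ φ.inv).left := inferInstanceAs (IsClosedImmersion (u'.left ≫ φ.inv.left))
    obtain ⟨f, hf⟩ := Groth.L14.Luna.exists_factor_unipotentRadical hU' (u ≫ φ.hom)
      (Groth.L08.SmallNorm.isNormalHom_comp_iso u φ.hom hUn) hUc hUt
    obtain ⟨f', hf'⟩ := Groth.L14.Luna.exists_factor_unipotentRadical hU (u' ≫ φ.inv)
      (Groth.L08.SmallNorm.isNormalHom_comp_iso u' φ.inv hUn') hUc' hUt'
    refine ⟨toUnit _ ≫ g, fun y => ⟨y ≫ f, ?_⟩, fun x => ⟨x ≫ f', ?_⟩⟩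
    · rw [Category.assoc, reassoc_of% hf, hφ]
      simp only [Groth.L08.Borel.comp_conjBy]
    · rw [Category.assoc, reassoc_of% hf', hψ₁]
      simp only [Groth.L08.Borel.comp_conjBy]
      simp only [AGF.conjBy, GrpObj.comp_inv, _root_.inv_inv]
  · intro x hx
    obtain ⟨⟨hdom, hic⟩, V, _, _, hVf, ρ, hρ⟩ := exists_faithful (G := G)
    haveI := hdom; haveI := hic; haveI := hVf
    obtain ⟨J, _, _, eV, q, hq⟩ := exists_wt_basis D (comap ρ D.i) hcomm
    refine exists_cellFun hq bs (fun C _ _ g hg => ?_) hatt hd x hx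
    have h := hρ C (g ≫ D.i) hg
    rw [← cancel_mono D.i, h, MonObj.one_comp]

end Groth.L16.HwFun
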