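import Groth.Agent.S11245
import Groth.Agent.L16.HwFun.Setting
import Groth.Agent.L16.Weights.Regular

/-!
# Irreducibility of the induced modules in characteristic zero

`E(χ)`: functions invariant on the left under `U` and `χ`-equivariant under `T`, acted on by right translation.
-/

set_option autoImplicit false
set_option backward.isDefEq.respectTransparency.types false
set_option linter.unusedSectionVars false
set_option linter.style.haveILetI false
set_option maxHeartbeats 1600000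

universe u

open CategoryTheory MonoidalCategory CartesianMonoidalCategory MonObj AlgebraicGeometry
open Groth.L25.Observable Groth.L16.Weights
open WithConv
open scoped TensorProduct

noncomputable section

namespace Groth.L16.HwFun

variable {k : Type u} [Field k] [IsAlgClosed k] {G T U : Over (Spec (CommRingCat.of k))} [GrpObj G] [GrpObj T]
  [GrpObj U] {A : Type u} [CommRing A] [HopfAlgebra k A] (ψ : G ⟶ Sp k A) (iT : T ⟶ G) (iU : U ⟶ G)

/-- The induced module of a character, inside the coordinate ring. -/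
def ind (χ : (VecGrp.pt k k ⟶ T) → k) : Submodule k A where
  carrier := {φ | (∀ (y : VecGrp.pt k k ⟶ U) (x : VecGrp.pt k k ⟶ G),
      (ev ψ ((y ≫ iU) * x)).ofConv φ = (ev ψ x).ofConv φ) ∧
    ∀ (s : VecGrp.pt k k ⟶ T) (x : VecGrp.pt k k ⟶ G),
      (ev ψ ((s ≫ iT) * x)).ofConv φ = χ s * (ev ψ x).ofConv φ}
  add_mem' {a b} ha hb := ⟨fun y x => by rw [map_add, map_add, ha.1, hb.1],
    fun s x => by rw [map_add, map_add, ha.2, hb.2, mul_add]⟩
  zero_mem' := ⟨fun y x => by rw [map_zero, map_zero], fun s x => by rw [map_zero, map_zero, mul_zero]⟩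
  smul_mem' c a ha := ⟨fun y x => by rw [map_smul, map_smul, ha.1],
    fun s x => by rw [map_smul, map_smul, ha.2, smul_eq_mul, smul_eq_mul]; ring⟩

variable {χ χ' : (VecGrp.pt k k ⟶ T) → k}

theorem mul_mem_ind {a b : A} (ha : a ∈ ind ψ iT iU χ) (hb : b ∈ ind ψ iT iU χ') :
    a * b ∈ ind ψ iT iU fun s => χ s * χ' s :=
  ⟨fun y x => by rw [map_mul, map_mul, ha.1, hb.1],
    fun s x => by rw [map_mul, map_mul, ha.2, hb.2]; ring⟩

variable [IsMonHom ψ]

theorem Rt_mem_ind {a : A} (ha : a ∈ ind ψ iT iU χ) (g : VecGrp.pt k k ⟶ G) :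
    Rt (ev ψ g).ofConv a ∈ ind ψ iT iU χ :=
  ⟨fun y x => by rw [apply_Rt, apply_Rt, ← ev_mul, ← ev_mul, _root_.mul_assoc, ha.1],
    fun s x => by rw [apply_Rt, apply_Rt, ← ev_mul, ← ev_mul, _root_.mul_assoc, ha.2]⟩

variable [IsIso ψ] [_root_.IsReduced A] [Algebra.FiniteType k A]

theorem Rt_Rt (g g' : VecGrp.pt k k ⟶ G) (a : A) :
    Rt (ev ψ g).ofConv (Rt (ev ψ g').ofConv a) = Rt (ev ψ (g * g')).ofConv a :=
  eq_of_forall_ev ψ fun x => by
    rw [apply_Rt, apply_Rt, apply_Rt, ev_mul, _root_.mul_assoc]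

theorem Rt_one' (a : A) : Rt (ev ψ (1 : VecGrp.pt k k ⟶ G)).ofConv a = a :=
  eq_of_forall_ev ψ fun x => by rw [apply_Rt, ← ev_mul, _root_.mul_one]

variable {U' : Over (Spec (CommRingCat.of k))} [GrpObj U'] {iU' : U' ⟶ G}

/-- A fixed vector of the opposite unipotent group vanishing at the identity is zero. -/
theorem eq_zero_of_fixed [IsAffine G.left] [Smooth G.hom] (hd : Dense iU' iT iU) [IsMonHom iU'] [IsMonHom iT]
    [IsMonHom iU] {c : A} (hc : c ∈ ind ψ iT iU χ)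
    (fc : ∀ x : VecGrp.pt k k ⟶ U', Rt (ev ψ (x ≫ iU')).ofConv c = c)
    (h1 : (ev ψ (1 : VecGrp.pt k k ⟶ G)).ofConv c = 0) : c = 0 := by
  have h0 : fn ψ (HopfAlgebra.antipodeAlgHom k A c) = 0 := hd _ fun x s y => by
    rw [val_fn, ← ev_inv, ← fc x, apply_Rt, ← ev_mul,
      show ((x ≫ iU') * (s ≫ iT) * (y ≫ iU))⁻¹ * (x ≫ iU') = (y⁻¹ ≫ iU) * ((s⁻¹ ≫ iT) * 1) by
        rw [GrpObj.inv_comp, GrpObj.inv_comp]; group,
      hc.1, hc.2, h1, mul_zero]
  refine eq_of_forall_ev ψ fun x => ?_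
  have h := congrArg (val x⁻¹) h0
  rw [val_fn, ← ev_inv, _root_.inv_inv, val_zero] at h
  rw [h, map_zero]

omit [IsMonHom ψ] [IsIso ψ] [_root_.IsReduced A] [Algebra.FiniteType k A] in
/-- Complete reducibility of the finite modules of a connected reductive group in characteristic zero. -/
theorem isSS_ptAct [CharZero k] [IsAffine G.left] [Smooth G.hom] (hG : Red.IsReductiveOver k G) {V : Type u}
    [AddCommGroup V] [Module k V] [Module.Finite k V] (m : VecGrp.GMod G V)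
    (θ : Representation k (VecGrp.pt k k ⟶ G) V) (hθ : ∀ g v, θ g v = ptAct m g v) :
    Groth.L20.RepTensor.IsSS θ := by
  obtain ⟨A₀, _, _, _, _, ψ₀, _, _, c₀, hc₀⟩ := exists_comod_chart m
  letI := c₀
  have hLR : HopfRep.IsLinearlyReductive k A₀ := by
    refine Groth.L14.RedLR.isLinearlyReductive_of_isReductiveOver ?_
    haveI : IsMonHom (asIso ψ₀).hom := inferInstanceAs (IsMonHom ψ₀)
    exact Groth.L14.RedLR.isReductiveOver_congr (Grp.mkIso' (asIso ψ₀)) hG
  let Φ₀ : (VecGrp.pt k k ⟶ G) →* WithConv (A₀ →ₐ[k] k) :=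
    { toFun := Groth.L25.Observable.ev ψ₀, map_one' := Groth.L25.Observable.ev_one ψ₀,
      map_mul' := Groth.L25.Observable.ev_mul ψ₀ }
  have hsep : Groth.L20.RepTensor.Separating Φ₀ := fun a ha =>
    Groth.L25.Observable.eq_of_forall_ev ψ₀ fun x => by rw [map_zero]; exact ha x
  exact Groth.L20.RepTensor.isSS_of_isSemisimpleComod hsep θ (fun g v => ((hθ g v).trans (hc₀ g v)).symm) (hLR V inferInstance)

/-- In characteristic zero a nonzero stable subspace of an induced module is everything. -/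
theorem le_of_stable [CharZero k] [IsAffine G.left] [Smooth G.hom] (hG : Red.IsReductiveOver k G)
    [IsMonHom iT] [IsMonHom iU] [IsMonHom iU'] [IsAffine U.left] [Smooth U.hom] [ConnectedSpace U.left]
    [Group.IsSolvable (VecGrp.pt k k ⟶ U)] (hUn : Red.HasNoSubtorus k U) (hd : Dense iU' iT iU)
    {g : VecGrp.pt k k ⟶ G}
    (hg : ∀ x : VecGrp.pt k k ⟶ U', ∃ y : VecGrp.pt k k ⟶ U, g⁻¹ * (x ≫ iU') * g = y ≫ iU)
    (S : Submodule k A) (hSE : S ≤ ind ψ iT iU χ) (hSst : ∀ g, ∀ a ∈ S, Rt (ev ψ g).ofConv a ∈ S)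
    (hS0 : S ≠ ⊥) : ind ψ iT iU χ ≤ S := by
  intro f hf
  obtain ⟨a₀, ha₀, ha₀0⟩ := (Submodule.ne_bot_iff S).1 hS0
  obtain ⟨m, -, hmpt⟩ := exists_regular ψ (𝟙 G)
  have hm : ∀ (h : VecGrp.pt k k ⟶ G) (a : A), ptAct m h a = Rt (ev ψ h).ofConv a := fun h a => by
    show TensorProduct.lid k A (m.ρ k h ((1 : k) ⊗ₜ[k] a)) = _
    rw [hmpt, TensorProduct.lid_tmul, one_smul, Category.comp_id]
  obtain ⟨W₁, hW₁, hfW, hW₁s⟩ := Groth.L16.GeomRed.exists_finite_stable m f
  obtain ⟨W₂, hW₂, haW, hW₂s⟩ := Groth.L16.GeomRed.exists_finite_stable m a₀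
  let F : Submodule k A := (W₁ ⊔ W₂) ⊓ ind ψ iT iU χ
  haveI := hW₁; haveI := hW₂
  haveI : FiniteDimensional k F := Submodule.finiteDimensional_of_le (inf_le_left : F ≤ W₁ ⊔ W₂)
  have hFst : ∀ (h : VecGrp.pt k k ⟶ G), ∀ a ∈ F, ptAct m h a ∈ F := fun h a ha => by
    refine ⟨?_, hm h a ▸ Rt_mem_ind ψ iT iU ha.2 h⟩
    obtain ⟨p, hp, q, hq, rfl⟩ := Submodule.mem_sup.1 ha.1
    rw [map_add]
    exact Submodule.add_mem_sup (hW₁s h p hp) (hW₂s h q hq)
  obtain ⟨mF, hmF⟩ := exists_restrict m F (Groth.L16.Matsushima.isStable_of_pts m F hFst)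
  have hmF' : ∀ (h : VecGrp.pt k k ⟶ G) (a : F), (ptAct mF h a : A) = ptAct m h a := fun h a => by
    have e := hmF k h ((1 : k) ⊗ₜ[k] a)
    rw [LinearMap.baseChange_tmul, ptAct_spec, LinearMap.baseChange_tmul, ptAct_spec] at e
    simpa using congrArg (TensorProduct.lid k A) e
  let θ : Representation k (VecGrp.pt k k ⟶ G) F :=
    { toFun := fun h => ptAct mF h
      map_one' := LinearMap.ext fun x => ptAct_one mF x
      map_mul' := fun h h' => LinearMap.ext fun x => ptAct_mul mF h h' x }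
  obtain ⟨C, hC, hcC⟩ := isSS_ptAct hG mF θ (fun _ _ => rfl) (S.comap F.subtype) fun h x hx => by
    show (ptAct mF h x : A) ∈ S
    rw [hmF', hm]; exact hSst h _ hx
  -- a fixed vector of the opposite group in a stable subspace
  have hfix : ∀ M : Submodule k F, (∀ h, ∀ x ∈ M, θ h x ∈ M) → M ≠ ⊥ →
      ∃ x ∈ M, x ≠ 0 ∧ ∀ z : VecGrp.pt k k ⟶ U', Rt (ev ψ (z ≫ iU')).ofConv (x : A) = x := by
    intro M hM hne
    obtain ⟨v, hv, hv0, hvf⟩ := exists_fixed_ne_zero hUn iU mF M (fun y v hv => hM _ v hv) hne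
    refine ⟨θ g v, hM g v hv, fun h0 => hv0 ?_, fun z => ?_⟩
    · have h1 := congrArg (ptAct mF g⁻¹) h0
      rw [map_zero] at h1
      rwa [show θ g v = ptAct mF g v from rfl, ← ptAct_mul, inv_mul_cancel, ptAct_one] at h1
    · obtain ⟨y, hy⟩ := hg z
      rw [show ((θ g v : F) : A) = ptAct m g v from hmF' g v, hm, Rt_Rt,
        show (z ≫ iU') * g = g * (y ≫ iU) by rw [← hy]; group, ← Rt_Rt]
      refine congrArg _ ?_
      rw [← hm, ← hmF']
      refine congrArg Subtype.val ?_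
      show TensorProduct.lid k F (mF.ρ k (y ≫ iU) ((1 : k) ⊗ₜ[k] v)) = v
      rw [hvf k y, TensorProduct.lid_tmul, one_smul]
  by_contra hfS
  have hCne : C ≠ ⊥ := by
    intro hbot
    have := hcC.codisjoint.eq_top
    rw [hbot, sup_bot_eq] at this
    exact hfS (show (⟨f, ⟨Submodule.mem_sup_left hfW, hf⟩⟩ : F) ∈ S.comap F.subtype from this ▸ Submodule.mem_top)
  have hDne : S.comap F.subtype ≠ ⊥ := fun hbot => by
    have : (⟨a₀, ⟨Submodule.mem_sup_right haW, hSE ha₀⟩⟩ : F) ∈ S.comap F.subtype := ha₀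
    rw [hbot, Submodule.mem_bot] at this
    exact ha₀0 (congrArg Subtype.val this)
  obtain ⟨p, hp, hp0, fp⟩ := hfix C hC hCne
  obtain ⟨q, hq, hq0, fq⟩ := hfix (S.comap F.subtype) (fun h x hx => by
    show (ptAct mF h x : A) ∈ S
    rw [hmF', hm]; exact hSst h _ hx) hDne
  have hcp : (ev ψ (1 : VecGrp.pt k k ⟶ G)).ofConv (p : A) ≠ 0 := fun h =>
    hp0 (Subtype.ext (eq_zero_of_fixed ψ iT iU hd p.2.2 fp h))
  have hcq : (ev ψ (1 : VecGrp.pt k k ⟶ G)).ofConv (q : A) ≠ 0 := fun h =>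
    hq0 (Subtype.ext (eq_zero_of_fixed ψ iT iU hd q.2.2 fq h))
  set cp : k := (ev ψ (1 : VecGrp.pt k k ⟶ G)).ofConv (p : A)
  set cq : k := (ev ψ (1 : VecGrp.pt k k ⟶ G)).ofConv (q : A)
  have h1 : cq • p - cp • q = 0 := Subtype.ext (eq_zero_of_fixed ψ iT iU hd (cq • p - cp • q : F).2.2
    (fun z => by
      show Rt _ (cq • (p : A) - cp • (q : A)) = cq • (p : A) - cp • (q : A)
      rw [map_sub, map_smul, map_smul, fp, fq])
    (by
      show (ev ψ (1 : VecGrp.pt k k ⟶ G)).ofConv (cq • (p : A) - cp • (q : A)) = 0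
      rw [map_sub, map_smul, map_smul, smul_eq_mul, smul_eq_mul]
      ring))
  have h2 : cq • p = 0 := Submodule.disjoint_def.1 hcC.disjoint _
    ((sub_eq_zero.1 h1) ▸ Submodule.smul_mem _ cp hq) (Submodule.smul_mem _ cq hp)
  exact (smul_eq_zero.1 h2).elim hcq hp0

end Groth.L16.HwFun

namespace Groth.L16.HwFun

theorem reductive_of_over {k : Type u} [Field k] [IsAlgClosed k] {G : Over (Spec (CommRingCat.of k))} [GrpObj G]
    (h : Red.IsReductiveOver k G) : Red.IsReductive G := by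
  haveI := h.1; haveI := h.2.1; haveI := h.2.2.1
  exact isReductive_of_isReductiveOver h.2.2.2

end Groth.L16.HwFun
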