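import Groth.Agent.L16.HwFun.Exist
import Groth.Agent.L16.Weights.Regular
import Groth.Agent.L16.Weights.BorelTransfer
import Groth.Agent.L16.GeomRed.Quotient
import Groth.Agent.L16.Grosshans.Setup
import Groth.Agent.L25.Observable.Regular
import Groth.Agent.L25.Observable.Transfer
import Groth.Agent.L14.Luna.UnipRad
import Groth.Agent.L14.TypeR.AsymSolv

/-!
# The highest weight line
-/

set_option autoImplicit false
set_option backward.isDefEq.respectTransparency.types false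
set_option linter.unusedSectionVars false
set_option linter.style.haveILetI false
set_option maxHeartbeats 1600000

universe u

open CategoryTheory MonoidalCategory CartesianMonoidalCategory MonObj AlgebraicGeometry
open Groth.L14.RankOne Groth.L14.Chart Groth.L14.Chev Groth.L14.Chev.Cell Groth.L16.Weights
open Groth.L25.Observable
open scoped TensorProduct LaurentPolynomial

noncomputable section

namespace Groth.L16.HwFun

variable {k : Type u} [Field k] [IsAlgClosed k] {G : Over (Spec (CommRingCat.of k))} [GrpObj G]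

/-- A constant function. -/
def cst (G : Over (Spec (CommRingCat.of k))) (c : k) : Γ(G.left, ⊤) :=
  G.hom.appTop ((Scheme.ΓSpecIso (CommRingCat.of k)).inv c)

theorem val_cst (x : VecGrp.pt k k ⟶ G) (c : k) : val x (cst G c) = c := by
  show (Scheme.ΓSpecIso (CommRingCat.of k)).hom
    ((x.left ≫ G.hom).appTop ((Scheme.ΓSpecIso (CommRingCat.of k)).inv c)) = c
  rw [Over.w x]
  have h := congr($(Scheme.ΓSpecIso_naturality (CommRingCat.ofHom (algebraMap k k)))
    ((Scheme.ΓSpecIso (CommRingCat.of k)).inv c))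
  refine Eq.trans h ?_
  show algebraMap k k ((Scheme.ΓSpecIso (CommRingCat.of k)).hom ((Scheme.ΓSpecIso (CommRingCat.of k)).inv c)) = c
  rw [Algebra.algebraMap_self_apply]
  exact congr($((Scheme.ΓSpecIso (CommRingCat.of k)).inv_hom_id) c)

theorem exists_rightTranslate (g : 𝟙_ (Over (Spec (CommRingCat.of k))) ⟶ G) (f : Γ(G.left, ⊤)) :
    ∃ f' : Γ(G.left, ⊤), ∀ x : VecGrp.pt k k ⟶ G, val x f' = val (x * (toUnit _ ≫ g)) f :=
  ⟨(𝟙 G * (toUnit G ≫ g)).left.appTop f, fun x => by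
    rw [← val_comp, MonObj.comp_mul, Category.comp_id, ← Category.assoc, comp_toUnit]⟩

theorem exists_leftTranslate (g : 𝟙_ (Over (Spec (CommRingCat.of k))) ⟶ G) (f : Γ(G.left, ⊤)) :
    ∃ f' : Γ(G.left, ⊤), ∀ x : VecGrp.pt k k ⟶ G, val x f' = val ((toUnit _ ≫ g) * x) f :=
  ⟨((toUnit G ≫ g) * 𝟙 G).left.appTop f, fun x => by
    rw [← val_comp, MonObj.comp_mul, Category.comp_id, ← Category.assoc, comp_toUnit]⟩

theorem exists_toUnit (y : VecGrp.pt k k ⟶ G) :
    ∃ g : 𝟙_ (Over (Spec (CommRingCat.of k))) ⟶ G, toUnit _ ≫ g = y := by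
  let e : VecGrp.pt k k ≅ 𝟙_ (Over (Spec (CommRingCat.of k))) :=
    Over.isoMk (Iso.refl (Spec (CommRingCat.of k))) (by
      rw [show (VecGrp.pt k k).hom = 𝟙 (Spec (CommRingCat.of k)) from Spec.map_id (CommRingCat.of k)]; rfl)
  exact ⟨e.inv ≫ y, by rw [toUnit_unique (toUnit _) e.hom, Iso.hom_inv_id_assoc]⟩

variable {D : Red.SplitRed G} [IsMonHom D.i] {U U' : Over (Spec (CommRingCat.of k))} [GrpObj U] [GrpObj U']
  {iU' : U' ⟶ G} {iU : U ⟶ G} [IsMonHom iU] [IsMonHom iU'] {f : Γ(G.left, ⊤)} {w : D.M}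

theorem CellFun.right_unip (hf : CellFun D iU' iU f w) (hd : Dense iU' D.i iU) (x : VecGrp.pt k k ⟶ G)
    (y : VecGrp.pt k k ⟶ U) : val (x * (y ≫ iU)) f = val x f := by
  obtain ⟨y₀, hy₀⟩ := exists_toUnit (y ≫ iU)
  obtain ⟨f', hf'⟩ := exists_rightTranslate y₀ f
  have e : f' = f := eq_of_cell hd fun p t z => by
    rw [hf', hy₀, _root_.mul_assoc _ (z ≫ iU), ← MonObj.mul_comp, hf, hf]
  conv_rhs => rw [← e, hf', hy₀]

theorem CellFun.left_unip (hf : CellFun D iU' iU f w) (hd : Dense iU' D.i iU) (x : VecGrp.pt k k ⟶ G)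
    (p : VecGrp.pt k k ⟶ U') : val ((p ≫ iU') * x) f = val x f := by
  obtain ⟨p₀, hp₀⟩ := exists_toUnit (p ≫ iU')
  obtain ⟨f', hf'⟩ := exists_leftTranslate p₀ f
  have e : f' = f := eq_of_cell hd fun p' t z => by
    rw [hf', hp₀, ← _root_.mul_assoc, ← _root_.mul_assoc, ← MonObj.mul_comp, hf, hf]
  conv_rhs => rw [← e, hf', hp₀]

theorem CellFun.right_torus (hf : CellFun D iU' iU f w) (hd : Dense iU' D.i iU)
    (hnorm : ∀ (t : VecGrp.pt k k ⟶ D.T) (y : VecGrp.pt k k ⟶ U),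
      ∃ y' : VecGrp.pt k k ⟶ U, (t ≫ D.i) * (y ≫ iU) * (t ≫ D.i)⁻¹ = y' ≫ iU)
    (x : VecGrp.pt k k ⟶ G) (t : VecGrp.pt k k ⟶ D.T) : val (x * (t ≫ D.i)) f = chv D w t * val x f := by
  obtain ⟨t₀, ht₀⟩ := exists_toUnit (t ≫ D.i)
  obtain ⟨f', hf'⟩ := exists_rightTranslate t₀ f
  have e : f' = cst G (chv D w t) * f := eq_of_cell hd fun p s z => by
    obtain ⟨z', hz'⟩ := hnorm t⁻¹ z
    rw [GrpObj.inv_comp, _root_.inv_inv] at hz'
    rw [hf', ht₀, val_mul, val_cst, hf,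
      show (p ≫ iU') * (s ≫ D.i) * (z ≫ iU) * (t ≫ D.i) = (p ≫ iU') * ((s * t) ≫ D.i) * (z' ≫ iU) by
        rw [← hz', MonObj.mul_comp]; group,
      hf, chv_mul_pt, mul_comm]
  have h := congrArg (val x) e
  rwa [hf', ht₀, val_mul, val_cst] at h

end Groth.L16.HwFun
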