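import Groth.Agent.L16.HwFun.Quad
import Groth.Agent.L25.Observable.Basic
import Mathlib.LinearAlgebra.Matrix.Block
import Mathlib.RingTheory.IntegralClosure.IntegrallyClosed

/-!
# Functions of highest weight on a split group
-/

set_option autoImplicit false
set_option backward.isDefEq.respectTransparency.types false
set_option linter.unusedSectionVars false
set_option linter.style.haveILetI false
set_option maxHeartbeats 1000000

universe u

open CategoryTheory MonoidalCategory CartesianMonoidalCategory MonObj AlgebraicGeometry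
open Groth.L14.RankOne Groth.L14.Chart Groth.L14.Chev Groth.L14.Chev.Cell Groth.L16.Weights
open Groth.L25.Observable
open scoped TensorProduct LaurentPolynomial

noncomputable section

namespace Groth.L16.HwFun

variable {k : Type u} [Field k] [IsAlgClosed k] {G U U' : Over (Spec (CommRingCat.of k))} [GrpObj G] [GrpObj U]
  [GrpObj U'] (D : Red.SplitRed G) [IsMonHom D.i] (iU' : U' ⟶ G) (iU : U ⟶ G)

/-- A function which is the character `w` on the products `U' T U`. -/
def CellFun (f : Γ(G.left, ⊤)) (w : D.M) : Prop :=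
  ∀ (x : VecGrp.pt k k ⟶ U') (t : VecGrp.pt k k ⟶ D.T) (y : VecGrp.pt k k ⟶ U),
    val ((x ≫ iU') * (t ≫ D.i) * (y ≫ iU)) f = chv D w t

variable {D iU' iU}

theorem CellFun.mul {f f' : Γ(G.left, ⊤)} {w w' : D.M} (h : CellFun D iU' iU f w) (h' : CellFun D iU' iU f' w') :
    CellFun D iU' iU (f * f') (w + w') := fun x t y => by rw [val_mul, h x t y, h' x t y, chv_add]

theorem CellFun.one : CellFun D iU' iU 1 0 := fun x t y => by rw [val_one, chv_zero]

theorem CellFun.pow {f : Γ(G.left, ⊤)} {w : D.M} (h : CellFun D iU' iU f w) (n : ℕ) :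
    CellFun D iU' iU (f ^ n) (n • w) := by
  induction n with
  | zero => rw [pow_zero, zero_smul]; exact CellFun.one
  | succ n ih => rw [pow_succ, succ_nsmul]; exact ih.mul h

theorem val_zero {X : Over (Spec (CommRingCat.of k))} {B : Type u} [CommRing B] [Algebra k B]
    (γ : VecGrp.pt k B ⟶ X) : val γ (0 : Γ(X.left, ⊤)) = 0 := by simp [val]

theorem val_sub {X : Over (Spec (CommRingCat.of k))} {B : Type u} [CommRing B] [Algebra k B]
    (γ : VecGrp.pt k B ⟶ X) (f f' : Γ(X.left, ⊤)) : val γ (f - f') = val γ f - val γ f' := by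
  rw [eq_sub_iff_add_eq, ← val_add, sub_add_cancel]

section Matrix

variable [IsAffine G.left] [IsAffine U.left] [Smooth U.hom] [IsAffine U'.left] [Smooth U'.hom] [IsMonHom iU]
  [IsMonHom iU'] {V : Type u} [AddCommGroup V] [Module k V] (ρ : VecGrp.GMod G V) {J : Type u} [Fintype J]
  [DecidableEq J] (e : Module.Basis J k V) (q : J → D.M)

/-- The matrix of a rational point. -/
def mat (g : VecGrp.pt k k ⟶ G) : Matrix J J k := Matrix.of fun i j => e.repr (ptAct ρ g (e j)) i

theorem mat_mul (g h : VecGrp.pt k k ⟶ G) : mat ρ e (g * h) = mat ρ e g * mat ρ e h := by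
  ext i j
  show e.repr (ptAct ρ (g * h) (e j)) i = ∑ l, e.repr (ptAct ρ g (e l)) i * e.repr (ptAct ρ h (e j)) l
  rw [ptAct_mul]
  conv_lhs => rw [← e.sum_repr (ptAct ρ h (e j))]
  rw [map_sum, map_sum, Finset.sum_apply']
  refine Finset.sum_congr rfl fun l _ => ?_
  rw [map_smul, map_smul, Finsupp.smul_apply, smul_eq_mul, mul_comm]

theorem mat_one : mat ρ e 1 = 1 := by
  ext i j
  show e.repr (ptAct ρ 1 (e j)) i = _
  rw [ptAct_one, Module.Basis.repr_self, Finsupp.single_apply, Matrix.one_apply]
  simp [eq_comm]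

/-- The entries are regular functions. -/
theorem exists_entries : ∃ c : Matrix J J Γ(G.left, ⊤), ∀ (g : VecGrp.pt k k ⟶ G) (i j : J),
    val g (c i j) = mat ρ e g i j := by
  obtain ⟨alg, gen, -, -, hfac⟩ := exists_gen G
  letI := alg
  refine ⟨Matrix.of fun i j => (e.baseChange Γ(G.left, ⊤)).repr (ρ.ρ _ gen ((1 : Γ(G.left, ⊤)) ⊗ₜ[k] e j)) i,
    fun g i j => ?_⟩
  obtain ⟨φ, hφ, hval⟩ := hfac k g
  have key : ∀ z : Γ(G.left, ⊤) ⊗[k] V, φ ((e.baseChange Γ(G.left, ⊤)).repr z i) =
      e.repr (TensorProduct.lid k V (VecGrp.Wmap φ z)) i := by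
    intro z
    induction z using TensorProduct.induction_on with
    | zero => simp
    | add p q hp hq => simp only [map_add, Finsupp.add_apply, hp, hq]
    | tmul c a => simp [VecGrp.Wmap, mul_comm]
  rw [← hval]
  refine (key _).trans ?_
  rw [ρ.naturality, VecGrp.Wmap_tmul, map_one, hφ]
  rfl

variable {ρ e q} (hq : ∀ i, IsWt D (comap ρ D.i) (e i) (q i)) {L : D.M →+ ℤ}
  (ha : Attracts ((cocharT D L).map D.i) iU) (ha' : Attracts ((cocharT D L).map D.i).neg iU')

include hq ha in
theorem mat_upper (y : VecGrp.pt k k ⟶ U) (i j : J) (h : L (q i) ≤ L (q j)) :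
    mat ρ e (y ≫ iU) i j = if i = j then 1 else 0 := by
  show e.repr (ptAct ρ (y ≫ iU) (e j)) i = _
  have hh := proj_ptAct_attracted ρ ((cocharT D L).map D.i) iU ha (hq j L) y (L (q i))
  have hr := repr_proj hq L (L (q i)) (ptAct ρ (y ≫ iU) (e j)) i
  rw [if_pos rfl] at hr
  rw [← hr]
  rcases h.lt_or_eq with hlt | heq
  · rw [show proj (cocharT D L) (comap ρ D.i) (L (q i)) (ptAct ρ (y ≫ iU) (e j)) = 0 from hh.1 hlt, map_zero,
      Finsupp.zero_apply, if_neg fun e' => hlt.ne (by rw [e'])]
  · rw [show proj (cocharT D L) (comap ρ D.i) (L (q i)) (ptAct ρ (y ≫ iU) (e j)) = e j from hh.2 heq,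
      Module.Basis.repr_self, Finsupp.single_apply]
    simp [eq_comm]

include hq ha' in
theorem mat_lower (x : VecGrp.pt k k ⟶ U') (i j : J) (h : L (q j) ≤ L (q i)) :
    mat ρ e (x ≫ iU') i j = if i = j then 1 else 0 := by
  show e.repr (ptAct ρ (x ≫ iU') (e j)) i = _
  have hw : e j ∈ part ((cocharT D L).map D.i).neg ρ (-L (q j)) := by
    rw [part_neg, neg_neg]; exact hq j L
  have hh := proj_ptAct_attracted ρ ((cocharT D L).map D.i).neg iU' ha' hw x (-L (q i))
  rw [proj_neg, neg_neg] at hh
  have hr := repr_proj hq L (L (q i)) (ptAct ρ (x ≫ iU') (e j)) i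
  rw [if_pos rfl] at hr
  rw [← hr]
  rcases h.lt_or_eq with hlt | heq
  · rw [show proj (cocharT D L) (comap ρ D.i) (L (q i)) (ptAct ρ (x ≫ iU') (e j)) = 0 from hh.1 (by omega),
      map_zero, Finsupp.zero_apply, if_neg fun e' => hlt.ne (by rw [e'])]
  · rw [show proj (cocharT D L) (comap ρ D.i) (L (q i)) (ptAct ρ (x ≫ iU') (e j)) = e j from hh.2 (by omega),
      Module.Basis.repr_self, Finsupp.single_apply]
    simp [eq_comm]

include hq in
theorem mat_torus (t : VecGrp.pt k k ⟶ D.T) (i j : J) :
    mat ρ e (t ≫ D.i) i j = if i = j then chv D (q j) t else 0 := by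
  show e.repr (ptAct ρ (t ≫ D.i) (e j)) i = _
  rw [← ptAct_comap ρ D.i, (hq j).ptAct_eq t, map_smul, Finsupp.smul_apply, Module.Basis.repr_self,
    Finsupp.single_apply]
  simp [eq_comm]

include hq ha ha' in
/-- The minor of an upward closed set of weight vectors. -/
theorem exists_minor (S : Finset J) (hS : ∀ i ∈ S, ∀ l, L (q i) < L (q l) → l ∈ S) :
    ∃ f, CellFun D iU' iU f (∑ i ∈ S, q i) := by
  classical
  obtain ⟨c, hc⟩ := exists_entries ρ e
  refine ⟨(c.submatrix (Subtype.val : S → J) (Subtype.val : S → J)).det, fun x t y => ?_⟩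
  have hdet : ∀ g : VecGrp.pt k k ⟶ G, val g (c.submatrix (Subtype.val : S → J) (Subtype.val : S → J)).det =
      ((mat ρ e g).submatrix (Subtype.val : S → J) (Subtype.val : S → J)).det := by
    intro g
    let φ : Γ(G.left, ⊤) →+* k := ((Scheme.ΓSpecIso (CommRingCat.of k)).hom.hom).comp g.left.appTop.hom
    show φ _ = _
    rw [RingHom.map_det]
    congr 1
    ext i j
    exact hc g i j
  rw [hdet]
  -- multiplicativity on the stable set
  have hB : ∀ g : VecGrp.pt k k ⟶ G, (mat ρ e (g * (y ≫ iU))).submatrix (Subtype.val : S → J) (Subtype.val : S → J) =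
      (mat ρ e g).submatrix (Subtype.val : S → J) (Subtype.val : S → J) *
        (mat ρ e (y ≫ iU)).submatrix (Subtype.val : S → J) (Subtype.val : S → J) := by
    intro g
    ext i j
    rw [mat_mul, Matrix.submatrix_apply, Matrix.mul_apply, Matrix.mul_apply]
    simp only [Matrix.submatrix_apply]
    rw [Finset.sum_coe_sort S fun l => mat ρ e g i l * mat ρ e (y ≫ iU) l j]
    refine (Finset.sum_subset (Finset.subset_univ S) fun l _ hl => ?_).symm
    have hle : L (q l) ≤ L (q j) := not_lt.1 fun hlt => hl (hS _ j.2 l hlt)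
    rw [mat_upper hq ha y l j hle, if_neg fun e' : l = (j : J) => hl (e' ▸ j.2), mul_zero]
  have hT : (mat ρ e ((x ≫ iU') * (t ≫ D.i))).submatrix (Subtype.val : S → J) (Subtype.val : S → J) =
      (mat ρ e (x ≫ iU')).submatrix (Subtype.val : S → J) (Subtype.val : S → J) *
        Matrix.diagonal fun j : S => chv D (q j) t := by
    ext i j
    rw [mat_mul, Matrix.mul_diagonal, Matrix.submatrix_apply, Matrix.submatrix_apply, Matrix.mul_apply,
      Finset.sum_eq_single (j : J)]
    · rw [mat_torus hq t, if_pos rfl]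
    · exact fun l _ hl => by rw [mat_torus hq t, if_neg hl, mul_zero]
    · exact fun h => absurd (Finset.mem_univ _) h
  have hdiag : ∀ (M : Matrix S S k) (d : S → ℤ), M.BlockTriangular d →
      (∀ i j, d i = d j → M i j = if i = j then 1 else 0) → M.det = 1 := by
    intro M d hM h1
    rw [hM.det]
    refine Finset.prod_eq_one fun a _ => ?_
    rw [show M.toSquareBlock d a = 1 from ?_, Matrix.det_one]
    ext i j
    rw [Matrix.toSquareBlock_def, Matrix.of_apply, h1 _ _ (i.2.trans j.2.symm), Matrix.one_apply]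
    simp only [Subtype.coe_inj]
  have hu : ((mat ρ e (y ≫ iU)).submatrix (Subtype.val : S → J) (Subtype.val : S → J)).det = 1 := by
    refine hdiag _ (fun i : S => -L (q i)) (fun i j hij => ?_) fun i j hij => ?_
    · have hlt : L (q i.1) < L (q j.1) := by simpa using hij
      rw [Matrix.submatrix_apply, mat_upper hq ha y i j hlt.le, if_neg fun e' : (i : J) = j => hlt.ne (by rw [e'])]
    · rw [Matrix.submatrix_apply, mat_upper hq ha y i j (by simp at hij; omega)]
      simp only [Subtype.coe_inj]
  have hl : ((mat ρ e (x ≫ iU')).submatrix (Subtype.val : S → J) (Subtype.val : S → J)).det = 1 := by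
    refine hdiag _ (fun i : S => L (q i)) (fun i j hij => ?_) fun i j hij => ?_
    · have hlt : L (q j.1) < L (q i.1) := by simpa using hij
      rw [Matrix.submatrix_apply, mat_lower hq ha' x i j hlt.le, if_neg fun e' : (i : J) = j => hlt.ne (by rw [e'])]
    · rw [Matrix.submatrix_apply, mat_lower hq ha' x i j (le_of_eq hij.symm)]
      simp only [Subtype.coe_inj]
  rw [hB, hT, Matrix.det_mul, Matrix.det_mul, hl, hu, Matrix.det_diagonal, _root_.one_mul, _root_.mul_one,
    Finset.prod_coe_sort S fun j => chv D (q j) t, chv_sum]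

include hq ha ha' in
/-- The inverse of the determinant. -/
theorem exists_det_inv : ∃ f, CellFun D iU' iU f (-∑ i, q i) := by
  classical
  obtain ⟨f, hf⟩ := exists_minor hq ha ha' Finset.univ fun i _ l _ => Finset.mem_univ l
  obtain ⟨c, hc⟩ := exists_entries ρ e
  let φ : ∀ g : VecGrp.pt k k ⟶ G, Γ(G.left, ⊤) →+* k := fun g =>
    ((Scheme.ΓSpecIso (CommRingCat.of k)).hom.hom).comp g.left.appTop.hom
  have hdet : ∀ g, val g c.det = (mat ρ e g).det := fun g => by
    show φ g _ = _
    rw [RingHom.map_det]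
    congr 1
    ext i j
    exact hc g i j
  refine ⟨((𝟙 G)⁻¹ : G ⟶ G).left.appTop c.det, fun x t y => ?_⟩
  let g := (x ≫ iU') * (t ≫ D.i) * (y ≫ iU)
  rw [← val_comp, GrpObj.comp_inv, Category.comp_id, hdet]
  have h1 : (mat ρ e g).det * (mat ρ e g⁻¹).det = 1 := by
    rw [← Matrix.det_mul, ← mat_mul, mul_inv_cancel, mat_one, Matrix.det_one]
  have h2 : (mat ρ e g).det = chv D (∑ i, q i) t := by
    have hx := mat_mul ρ e ((x ≫ iU') * (t ≫ D.i)) (y ≫ iU)
    rw [hx, Matrix.det_mul, mat_mul, Matrix.det_mul]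
    have hU : (mat ρ e (y ≫ iU)).det = 1 := by
      rw [Matrix.BlockTriangular.det (b := fun i => -L (q i)) fun i j hij => by
        have hlt : L (q i) < L (q j) := by simpa using hij
        rw [mat_upper hq ha y i j hlt.le, if_neg fun e' => hlt.ne (by rw [e'])]]
      refine Finset.prod_eq_one fun a _ => ?_
      rw [show (mat ρ e (y ≫ iU)).toSquareBlock (fun i => -L (q i)) a = 1 from ?_, Matrix.det_one]
      ext i j
      rw [Matrix.toSquareBlock_def, Matrix.of_apply, mat_upper hq ha y _ _ (by
        have := i.2.trans j.2.symm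
        omega), Matrix.one_apply]
      simp only [Subtype.coe_inj]
    have hU' : (mat ρ e (x ≫ iU')).det = 1 := by
      rw [Matrix.BlockTriangular.det (b := fun i => L (q i)) fun i j hij => by
        have hlt : L (q j) < L (q i) := by simpa using hij
        rw [mat_lower hq ha' x i j hlt.le, if_neg fun e' => hlt.ne (by rw [e'])]]
      refine Finset.prod_eq_one fun a _ => ?_
      rw [show (mat ρ e (x ≫ iU')).toSquareBlock (fun i => L (q i)) a = 1 from ?_, Matrix.det_one]
      ext i j
      rw [Matrix.toSquareBlock_def, Matrix.of_apply, mat_lower hq ha' x _ _ (by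
        have := i.2.trans j.2.symm
        omega), Matrix.one_apply]
      simp only [Subtype.coe_inj]
    have hTd : mat ρ e (t ≫ D.i) = Matrix.diagonal fun j => chv D (q j) t := by
      ext i j
      rw [mat_torus hq t, Matrix.diagonal_apply]
      by_cases h : i = j <;> simp [h]
    rw [hU, hU', hTd, Matrix.det_diagonal, _root_.one_mul, _root_.mul_one, chv_sum]
  rw [h2] at h1
  refine mul_left_cancel₀ (chv_ne_zero D (∑ i, q i) t) ?_
  rw [h1, ← chv_add, add_neg_cancel, chv_zero]

end Matrix

end Groth.L16.HwFun
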