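import Groth.Agent.L16.HwFun.Weights
import Mathlib.LinearAlgebra.Dimension.Constructions

/-!
# The form of a representation on the cocharacters of a split torus
-/

set_option autoImplicit false
set_option backward.isDefEq.respectTransparency.types false
set_option linter.unusedSectionVars false
set_option linter.style.haveILetI false
set_option maxHeartbeats 1000000

universe u

open CategoryTheory MonoidalCategory CartesianMonoidalCategory MonObj AlgebraicGeometry
open Groth.L14.RankOne Groth.L14.Chart Groth.L14.Chev Groth.L14.Chev.Cell Groth.L16.Weights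
open Groth.L25.Observable (ptAct ptAct_spec ptAct_mul ptAct_one)
open scoped TensorProduct LaurentPolynomial

noncomputable section

namespace Groth.L16.HwFun

variable {k : Type u} [Field k] [IsAlgClosed k] {G : Over (Spec (CommRingCat.of k))} [GrpObj G] {D : Red.SplitRed G}
  [IsMonHom D.i] {V : Type u} [AddCommGroup V] [Module k V] {ρT : VecGrp.GMod D.T V}
  {J : Type u} [Fintype J] {e : Module.Basis J k V} {q : J → D.M} (hq : ∀ i, IsWt D ρT (e i) (q i))

include hq in
theorem proj_eq_sum (lam : D.M →+ ℤ) (n : ℤ) (v : V) :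
    proj (cocharT D lam) ρT n v = ∑ i, e.repr v i • if lam (q i) = n then e i else 0 := by
  conv_lhs => rw [← e.sum_repr v, map_sum]
  exact Finset.sum_congr rfl fun i _ => by rw [map_smul, proj_of_mem _ ρT (hq i lam)]

include hq in
theorem repr_proj (lam : D.M →+ ℤ) (n : ℤ) (v : V) (i : J) :
    e.repr (proj (cocharT D lam) ρT n v) i = if lam (q i) = n then e.repr v i else 0 := by
  classical
  rw [proj_eq_sum hq, map_sum, Finset.sum_apply']
  rw [Finset.sum_eq_single i]
  · split_ifs <;> simp
  · intro j _ hji
    split_ifs <;> simp [hji]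
  · simp

include hq in
/-- The coordinates of a weight vector are carried by the basis vectors of the same weight. -/
theorem eq_of_repr_ne_zero {v : V} {x : D.M} (hv : IsWt D ρT v x) {i : J} (hi : e.repr v i ≠ 0) : q i = x := by
  refine (Module.Free.chooseBasis ℤ D.M).ext_elem fun j => ?_
  by_contra hne
  let lam : D.M →+ ℤ := ((Module.Free.chooseBasis ℤ D.M).coord j).toAddMonoidHom
  have h := repr_proj hq lam (lam x) v i
  rw [proj_of_mem _ ρT (hv lam), if_pos rfl, if_neg (show lam (q i) ≠ lam x from hne)] at h
  exact hi h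

include hq in
/-- The weights of a faithful module generate the character group. -/
theorem span_weights_eq_top
    (hfaith : ∀ (C : Type u) [CommRing C] [Algebra k C] (g : VecGrp.pt k C ⟶ D.T),
      (∀ v : V, ρT.ρ C g ((1 : C) ⊗ₜ[k] v) = (1 : C) ⊗ₜ[k] v) → g = 1) :
    Submodule.span ℤ (Set.range q) = ⊤ := by
  classical
  let N := Submodule.span ℤ (Set.range q)
  let χ : Multiplicative D.M →* MonoidAlgebra k (Multiplicative (D.M ⧸ N)) :=
    (MonoidAlgebra.of k (Multiplicative (D.M ⧸ N))).comp N.mkQ.toAddMonoidHom.toMultiplicative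
  have h1 : sg (k := k) _ ≫ tpt D (base k) χ = 1 := hfaith _ _ fun v => by
    rw [← e.sum_repr v, TensorProduct.tmul_sum, map_sum]
    refine Finset.sum_congr rfl fun i _ => ?_
    rw [TensorProduct.tmul_smul, ← LinearEquiv.coe_coe, LinearMap.map_smul_of_tower (ρT.ρ _ _).toLinearMap (e.repr v i)]
    congr 1
    have : N.mkQ (q i) = 0 := (Submodule.Quotient.mk_eq_zero N).2 (Submodule.subset_span ⟨i, rfl⟩)
    refine ((hq i).act_eq χ).trans ?_
    rw [show χ (Multiplicative.ofAdd (q i)) = 1 by
      show MonoidAlgebra.of k _ (Multiplicative.ofAdd (N.mkQ (q i))) = 1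
      rw [this, ofAdd_zero, map_one]]
  have h2 : tpt D (base k) χ = tpt D (base k) 1 := by
    have := congrArg (fun g => sg' _ ≫ g) h1
    rw [tpt_one, ← MonObj.comp_one (sg' (k := k) _), ← this, ← Category.assoc]
    rw [show sg' (k := k) (MonoidAlgebra k (Multiplicative (D.M ⧸ N))) ≫ sg _ = 𝟙 _ from
      Over.OverMorphism.ext (Category.id_comp _), Category.id_comp]
  have h3 := tpt_injective (base k) h2
  rw [eq_top_iff]
  intro m _
  have h4 := DFunLike.congr_fun h3 (Multiplicative.ofAdd m)
  rw [MonoidHom.one_apply] at h4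
  have h5 : Multiplicative.ofAdd (N.mkQ m) = 1 := MonoidAlgebra.of_injective (h4.trans (map_one _).symm)
  exact (Submodule.Quotient.mk_eq_zero N).1 (congrArg Multiplicative.toAdd h5)

section Refl

variable {ρ : VecGrp.GMod G V} (hρ : ρT = comap ρ D.i)

include hq hρ in
/-- The reflection preserves the multiplicities of the weights. -/
theorem card_fiber_le (a : D.idx) (x : D.M) [DecidableEq D.M] :
    (Finset.univ.filter fun i => q i = x).card ≤ (Finset.univ.filter fun i => q i = D.P.reflection a x).card := by
  classical
  subst hρ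
  obtain ⟨nr, hnr⟩ := D.refl a
  let g : VecGrp.pt k k ⟶ G := toUnit _ ≫ nr
  have hinj : Function.Injective (ptAct ρ g) := Function.LeftInverse.injective (g := ptAct ρ g⁻¹) fun v => by
    rw [← ptAct_mul, inv_mul_cancel, ptAct_one]
  let S := Finset.univ.filter fun i => q i = x
  let S' := Finset.univ.filter fun i => q i = D.P.reflection a x
  let f : S → V := fun i => ptAct ρ g (e i)
  have hli : LinearIndependent k f :=
    (e.linearIndependent.comp (Subtype.val : S → J) Subtype.val_injective).map' _ (LinearMap.ker_eq_bot.2 hinj)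
  have hmem : ∀ i : S, f i ∈ Submodule.span k (Set.range fun j : S' => e j) := by
    intro i
    have hi : q i.1 = x := (Finset.mem_filter.1 i.2).2
    have hwt : IsWt D (comap ρ D.i) (f i) (D.P.reflection a x) := fun lam => by
      refine ptAct_refl_mem_part D ρ (actsBy_of_refl hnr) ?_
      have := hq i.1 (lam.comp (D.P.reflection a).toLinearMap.toAddMonoidHom)
      rw [hi] at this
      exact this
    rw [← e.sum_repr (f i)]
    refine Submodule.sum_mem _ fun j _ => ?_
    by_cases hj : e.repr (f i) j = 0
    · rw [hj, zero_smul]; exact zero_mem _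
    · exact Submodule.smul_mem _ _ (Submodule.subset_span
        ⟨⟨j, Finset.mem_filter.2 ⟨Finset.mem_univ j, eq_of_repr_ne_zero hq hwt hj⟩⟩, rfl⟩)
  have h1 := finrank_span_eq_card hli
  haveI : Module.Finite k (Submodule.span k (Set.range fun j : S' => e j)) :=
    Module.Finite.span_of_finite k (Set.finite_range _)
  have h2 := Submodule.finrank_mono (Submodule.span_le.2 (by rintro _ ⟨i, rfl⟩; exact hmem i) :
    Submodule.span k (Set.range f) ≤ Submodule.span k (Set.range fun j : S' => e j))
  have h3 := finrank_range_le_card (R := k) (fun j : S' => e j)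
  simp only [Fintype.card_coe] at h1 h3
  rw [h1] at h2
  exact h2.trans h3

include hq hρ in
theorem sum_reflection (a : D.idx) (f : D.M → ℤ) : ∑ i, f (D.P.reflection a (q i)) = ∑ i, f (q i) := by
  classical
  let s := D.P.reflection a
  have hs : ∀ y, s (s y) = y := fun y => D.P.reflection_same a y
  have hcard : ∀ y, (Finset.univ.filter fun i => s (q i) = y).card = (Finset.univ.filter fun i => q i = y).card := by
    intro y
    have e1 : (Finset.univ.filter fun i => s (q i) = y) = Finset.univ.filter fun i => q i = s y :=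
      Finset.filter_congr fun i _ => ⟨fun h => by rw [← h, hs], fun h => by rw [h, hs]⟩
    rw [e1]
    refine le_antisymm ?_ (card_fiber_le hq hρ a y)
    have := card_fiber_le hq hρ a (s y)
    rwa [show D.P.reflection a (s y) = y from hs y] at this
  let T := (Finset.univ.image q) ∪ (Finset.univ.image fun i => s (q i))
  rw [← Finset.sum_fiberwise_of_maps_to (t := T) (g := fun i => s (q i))
      (fun i _ => Finset.mem_union_right _ (Finset.mem_image_of_mem _ (Finset.mem_univ i))),
    ← Finset.sum_fiberwise_of_maps_to (t := T) (g := q)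
      (fun i _ => Finset.mem_union_left _ (Finset.mem_image_of_mem _ (Finset.mem_univ i)))]
  refine Finset.sum_congr rfl fun y _ => ?_
  rw [Finset.sum_congr rfl (fun i hi => congrArg f (Finset.mem_filter.1 hi).2), Finset.sum_const, hcard y,
    Finset.sum_congr rfl (fun i hi => congrArg f (Finset.mem_filter.1 hi).2), Finset.sum_const]

/-- The weight attached to a functional. -/
def phiMap (q : J → D.M) : (D.M →+ ℤ) →+ D.M where
  toFun lam := ∑ i, lam (q i) • q i
  map_zero' := by simp
  map_add' lam mu := by simp [add_smul, Finset.sum_add_distrib]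

include hq hρ in
/-- The pairing of the attached weight with a coroot. -/
theorem two_mul_phi (a : D.idx) (lam : D.M →+ ℤ) :
    2 * D.P.coroot' a (phiMap q lam) = lam (D.P.root a) * ∑ i, D.P.coroot' a (q i) ^ 2 := by
  let c := D.P.coroot' a
  have h := sum_reflection hq hρ a fun x => lam x * c x
  have e : ∀ x, lam (D.P.reflection a x) * c (D.P.reflection a x) = -(lam x * c x) + lam (D.P.root a) * c x ^ 2 := by
    intro x
    have hc : c (D.P.reflection a x) = -c x := by
      show D.P.coroot' a (D.P.reflection a x) = -D.P.coroot' a x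
      rw [D.P.reflection_apply, map_sub, map_smul, D.P.root_coroot'_eq_pairing, D.P.pairing_same, smul_eq_mul]
      ring
    rw [hc, D.P.reflection_apply, map_sub, map_zsmul, smul_eq_mul]
    show (lam x - c x * lam (D.P.root a)) * -c x = _
    ring
  simp only [e] at h
  rw [Finset.sum_add_distrib, Finset.sum_neg_distrib, ← Finset.mul_sum] at h
  have e2 : c (phiMap q lam) = ∑ i, lam (q i) * c (q i) := by
    show c (∑ i, lam (q i) • q i) = _
    rw [map_sum]
    exact Finset.sum_congr rfl fun i _ => by rw [map_zsmul, smul_eq_mul]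
  show 2 * c (phiMap q lam) = _
  rw [e2]
  linarith

end Refl

include hq in
theorem phiMap_injective
    (hfaith : ∀ (C : Type u) [CommRing C] [Algebra k C] (g : VecGrp.pt k C ⟶ D.T),
      (∀ v : V, ρT.ρ C g ((1 : C) ⊗ₜ[k] v) = (1 : C) ⊗ₜ[k] v) → g = 1) :
    Function.Injective (phiMap q) := by
  rw [injective_iff_map_eq_zero]
  intro lam h
  have h0 : ∑ i, lam (q i) ^ 2 = 0 := by
    have := congrArg lam h
    rw [map_zero] at this
    rw [← this]
    show _ = lam (∑ i, lam (q i) • q i)
    rw [map_sum]
    exact Finset.sum_congr rfl fun i _ => by rw [map_zsmul, smul_eq_mul, sq]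
  have hi : ∀ i, lam (q i) = 0 := fun i =>
    sq_eq_zero_iff.1 ((Finset.sum_eq_zero_iff_of_nonneg fun j _ => sq_nonneg (lam (q j))).1 h0 i (Finset.mem_univ i))
  refine AddMonoidHom.ext fun m => ?_
  have hm : m ∈ LinearMap.ker lam.toIntLinearMap := by
    have : Submodule.span ℤ (Set.range q) ≤ LinearMap.ker lam.toIntLinearMap :=
      Submodule.span_le.2 (by rintro _ ⟨i, rfl⟩; exact hi i)
    exact this (span_weights_eq_top hq hfaith ▸ Submodule.mem_top)
  exact hm

include hq in
/-- A multiple of every weight is attached to a functional. -/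
theorem exists_phi_eq
    (hfaith : ∀ (C : Type u) [CommRing C] [Algebra k C] (g : VecGrp.pt k C ⟶ D.T),
      (∀ v : V, ρT.ρ C g ((1 : C) ⊗ₜ[k] v) = (1 : C) ⊗ₜ[k] v) → g = 1) (x : D.M) :
    ∃ (N : ℕ) (lam : D.M →+ ℤ), 0 < N ∧ phiMap q lam = N • x := by
  classical
  let b := Module.Free.chooseBasis ℤ D.M
  let E : D.M →ₗ[ℤ] D.M := (phiMap q).toIntLinearMap ∘ₗ
    { toFun := fun y => (b.toDual y).toAddMonoidHom
      map_add' := fun y z => by rw [map_add]; rfl
      map_smul' := fun c y => by rw [map_smul]; rfl }
  have hE : Function.Injective E := fun y z h =>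
    b.toDual_injective (LinearMap.toAddMonoidHom_injective (phiMap_injective hq hfaith h))
  let A := LinearMap.toMatrix b b E
  have hdet : A.det ≠ 0 := by
    intro h0
    obtain ⟨v, hv, hv0⟩ := Matrix.exists_mulVec_eq_zero_iff.2 h0
    refine hv (funext fun i => ?_)
    have h1 : E (b.equivFun.symm v) = E 0 := by
      rw [map_zero]
      refine b.equivFun.injective (funext fun i => ?_)
      rw [map_zero]
      have h2 := LinearMap.toMatrix_mulVec_repr b b E (b.equivFun.symm v)
      rw [show (⇑(b.repr (b.equivFun.symm v))) = v by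
        rw [← Module.Basis.equivFun_apply, LinearEquiv.apply_symm_apply]] at h2
      rw [Module.Basis.equivFun_apply, ← congrFun h2 i]
      exact congrFun hv0 i
    have h3 := congrFun (congrArg b.equivFun (hE h1)) i
    rw [LinearEquiv.apply_symm_apply, map_zero] at h3
    exact h3
  let y := Matrix.toLin b b A.adjugate x
  have hy : E y = A.det • x := by
    have : (Matrix.toLin b b A).comp (Matrix.toLin b b A.adjugate) = A.det • LinearMap.id := by
      rw [← Matrix.toLin_mul, Matrix.mul_adjugate, map_smul, Matrix.toLin_one]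
    have h := LinearMap.congr_fun this x
    rwa [Matrix.toLin_toMatrix] at h
  rcases lt_or_gt_of_ne hdet with hneg | hpos
  · refine ⟨(-A.det).toNat, -(b.toDual y).toAddMonoidHom, by omega, ?_⟩
    rw [map_neg, ← natCast_zsmul, Int.toNat_of_nonneg (by omega), neg_smul]
    exact congrArg Neg.neg hy
  · refine ⟨A.det.toNat, (b.toDual y).toAddMonoidHom, by omega, ?_⟩
    rw [← natCast_zsmul, Int.toNat_of_nonneg (by omega)]
    exact hy

end Groth.L16.HwFun
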