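import Groth.Agent.L16.Weights.TorusSetting
import Mathlib.LinearAlgebra.Trace
import Mathlib.LinearAlgebra.Dimension.Finrank

/-!
# Weights of rational modules of a split torus
-/

set_option autoImplicit false
set_option backward.isDefEq.respectTransparency.types false
set_option linter.unusedSectionVars false
set_option linter.style.haveILetI false
set_option maxHeartbeats 1000000

universe u

open CategoryTheory MonoidalCategory CartesianMonoidalCategory MonObj AlgebraicGeometry
open Groth.L14.RankOne Groth.L14.Chart Groth.L14.Chev Groth.L14.Chev.Cell Groth.L16.Weights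
open Groth.L25.Observable (ptAct ptAct_spec ptAct_mul ptAct_one val val_comp)
open scoped TensorProduct LaurentPolynomial

noncomputable section

namespace Groth.L16.HwFun

variable {k : Type u} [Field k] {G : Over (Spec (CommRingCat.of k))} [GrpObj G] (D : Red.SplitRed G)

/-- The value of a character at a rational point of the split torus. -/
def chv (q : D.M) (t : VecGrp.pt k k ⟶ D.T) : k :=
  val t (Red.gmFn (D.split.hom.hom.hom ≫ Red.chi (Spec (CommRingCat.of k)) q))

theorem exists_char (t : VecGrp.pt k k ⟶ D.T) :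
    ∃ χ : Multiplicative D.M →* k, t = sg k ≫ tpt D (base k) χ := by
  obtain ⟨χ, hχ⟩ := exists_tpt (D := D) (base k) (sg' k ≫ t)
  exact ⟨χ, by rw [hχ, ← Category.assoc, sg_sg', Category.id_comp]⟩

theorem chv_tpt (χ : Multiplicative D.M →* k) (q : D.M) :
    chv D q (sg k ≫ tpt D (base k) χ) = χ (Multiplicative.ofAdd q) := by
  have h := gmFn_tpt_chi (D := D) (base k) χ q
  show (Scheme.ΓSpecIso (CommRingCat.of k)).hom
    ((sg k).left.appTop ((tpt D (base k) χ).left.appTop (Red.gmFn _))) = _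
  have e : (tpt D (base k) χ).left.appTop (Red.gmFn (D.split.hom.hom.hom ≫ Red.chi _ q)) =
      (Scheme.ΓSpecIso (CommRingCat.of k)).inv (χ (Multiplicative.ofAdd q)) := by
    rw [← h]; rfl
  rw [e]
  exact congr($((Scheme.ΓSpecIso (CommRingCat.of k)).inv_hom_id) (χ (Multiplicative.ofAdd q)))

theorem chv_add (q q₂ : D.M) (t : VecGrp.pt k k ⟶ D.T) : chv D (q + q₂) t = chv D q t * chv D q₂ t := by
  obtain ⟨χ, rfl⟩ := exists_char D t
  rw [chv_tpt, chv_tpt, chv_tpt, ofAdd_add, map_mul]

theorem chv_zero (t : VecGrp.pt k k ⟶ D.T) : chv D 0 t = 1 := by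
  obtain ⟨χ, rfl⟩ := exists_char D t
  rw [chv_tpt, ofAdd_zero, map_one]

theorem chv_ne_zero (q : D.M) (t : VecGrp.pt k k ⟶ D.T) : chv D q t ≠ 0 := fun h => by
  have := chv_add D q (-q) t
  rw [add_neg_cancel, chv_zero, h, zero_mul] at this
  exact one_ne_zero this

theorem chv_one_pt (q : D.M) : chv D q 1 = 1 := by
  have h : (1 : VecGrp.pt k k ⟶ D.T) = sg k ≫ tpt D (base k) 1 := by rw [tpt_one, MonObj.comp_one]
  rw [h, chv_tpt, MonoidHom.one_apply]

theorem chv_mul_pt (q : D.M) (s t : VecGrp.pt k k ⟶ D.T) : chv D q (s * t) = chv D q s * chv D q t := by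
  obtain ⟨χ, rfl⟩ := exists_char D s
  obtain ⟨χ', rfl⟩ := exists_char D t
  rw [← MonObj.comp_mul, ← tpt_mul, chv_tpt, chv_tpt, chv_tpt, MonoidHom.mul_apply]

theorem chv_sum {J : Type*} (s : Finset J) (q : J → D.M) (t : VecGrp.pt k k ⟶ D.T) :
    chv D (∑ i ∈ s, q i) t = ∏ i ∈ s, chv D (q i) t := by
  classical
  induction s using Finset.induction_on with
  | empty => rw [Finset.sum_empty, Finset.prod_empty, chv_zero]
  | insert a s ha ih => rw [Finset.sum_insert ha, Finset.prod_insert ha, chv_add, ih]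

theorem chv_nsmul (n : ℕ) (q : D.M) (t : VecGrp.pt k k ⟶ D.T) : chv D (n • q) t = chv D q t ^ n := by
  induction n with
  | zero => rw [zero_smul, pow_zero, chv_zero]
  | succ n ih => rw [succ_nsmul, chv_add, ih, pow_succ]

variable {V : Type u} [AddCommGroup V] [Module k V] (ρ : VecGrp.GMod D.T V)

/-- A vector of a given weight. -/
def IsWt (v : V) (q : D.M) : Prop := ∀ lam : D.M →+ ℤ, v ∈ part (cocharT D lam) ρ (lam q)

variable {D ρ}

theorem IsWt.act_eq {v : V} {q : D.M} (h : IsWt D ρ v q) {C : Type u} [CommRing C] [Algebra k C]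
    (χ : Multiplicative D.M →* C) :
    ρ.ρ C (sg C ≫ tpt D (base k) χ) ((1 : C) ⊗ₜ[k] v) = χ (Multiplicative.ofAdd q) ⊗ₜ[k] v := by
  classical
  let P : (Multiplicative D.M →* C) → Prop := fun χ =>
    ρ.ρ C (sg C ≫ tpt D (base k) χ) ((1 : C) ⊗ₜ[k] v) = χ (Multiplicative.ofAdd q) ⊗ₜ[k] v
  have hone : P 1 := by
    show ρ.ρ C (sg C ≫ tpt D (base k) 1) _ = _
    rw [tpt_one, MonObj.comp_one, map_one, MonoidHom.one_apply]
    rfl
  have hsm : ∀ c : C, (c ⊗ₜ[k] v : C ⊗[k] V) = c • ((1 : C) ⊗ₜ[k] v) := fun c => by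
    rw [TensorProduct.smul_tmul', smul_eq_mul, _root_.mul_one]
  have hmul : ∀ χ χ', P χ → P χ' → P (χ * χ') := fun χ χ' h1 h2 => by
    show ρ.ρ C (sg C ≫ tpt D (base k) (χ * χ')) _ = _
    rw [tpt_mul, MonObj.comp_mul, map_mul, LinearEquiv.mul_apply, h2, hsm (χ' _), map_smul, h1,
      TensorProduct.smul_tmul', smul_eq_mul, MonoidHom.mul_apply, mul_comm]
  -- a point of a one-parameter subgroup
  have hone' : ∀ (lam : D.M →+ ℤ) (c : Cˣ),
      P (((Units.coeHom C).comp (zpowersHom Cˣ c)).comp lam.toMultiplicative) := by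
    intro lam c
    let φ : k[T;T⁻¹] →ₐ[k] C := AddMonoidAlgebra.lift k C ℤ ((Units.coeHom C).comp (zpowersHom Cˣ c))
    have hφ : ∀ n : ℤ, φ (LaurentPolynomial.T n) = ((c ^ n : Cˣ) : C) := fun n => by
      rw [LaurentPolynomial.T, AddMonoidAlgebra.lift_single, one_smul]
      rfl
    have h1 := congrArg (VecGrp.Wmap φ) ((mem_part _ ρ).1 (h lam))
    rw [ρ.naturality, VecGrp.Wmap_tmul, VecGrp.Wmap_tmul, map_one, hφ] at h1
    have e : VecGrp.ptMap φ ≫ (cocharT D lam).pt =
        sg C ≫ tpt D (base k) (((Units.coeHom C).comp (zpowersHom Cˣ c)).comp lam.toMultiplicative) := by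
      show VecGrp.ptMap φ ≫ sg _ ≫ tpt D (base k) (chiLam k lam) = _
      rw [reassoc_of% (ptMap_sg φ), mor_tpt (base k) φ (chiLam k lam)]
      exact congrArg (fun χ => sg C ≫ tpt D (base k) χ) (MonoidHom.ext fun m => hφ _)
    rw [e] at h1
    exact h1
  let b := Module.Free.chooseBasis ℤ D.M
  let u : Module.Free.ChooseBasisIndex ℤ D.M → Cˣ := fun i => χ.toHomUnits (Multiplicative.ofAdd (b i))
  have hχ : χ = ∏ i, ((Units.coeHom C).comp (zpowersHom Cˣ (u i))).comp (b.coord i).toAddMonoidHom.toMultiplicative := by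
    refine MonoidHom.ext fun m => ?_
    have e : χ.toHomUnits m = ∏ i, u i ^ (b.repr m.toAdd i) := by
      conv_lhs => rw [← ofAdd_toAdd m, ← b.sum_repr m.toAdd, ofAdd_sum, map_prod]
      exact Finset.prod_congr rfl fun i _ => by rw [ofAdd_zsmul, map_zpow]
    rw [MonoidHom.finsetProd_apply]
    exact (congrArg Units.val e).trans (map_prod (Units.coeHom C) _ _)
  have hP : P χ := by
    rw [hχ]
    exact Finset.prod_induction _ P hmul hone fun i _ => hone' _ _
  exact hP

theorem IsWt.ptAct_eq [IsAlgClosed k] {v : V} {q : D.M} (h : IsWt D ρ v q) (t : VecGrp.pt k k ⟶ D.T) :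
    ptAct ρ t v = chv D q t • v := by
  obtain ⟨χ, rfl⟩ := exists_char D t
  rw [chv_tpt]
  exact (congrArg (TensorProduct.lid k V) (h.act_eq χ)).trans (TensorProduct.lid_tmul _ _)

variable (D ρ) [IsMonHom D.i]

theorem isWt_of_coords {v : V} (n : Module.Free.ChooseBasisIndex ℤ D.M → ℤ)
    (h : ∀ i, v ∈ part (cocharT D ((Module.Free.chooseBasis ℤ D.M).coord i).toAddMonoidHom) ρ (n i)) :
    IsWt D ρ v (∑ i, n i • Module.Free.chooseBasis ℤ D.M i) := by
  classical
  intro lam
  let b := Module.Free.chooseBasis ℤ D.M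
  have key : ∀ s : Finset (Module.Free.ChooseBasisIndex ℤ D.M),
      v ∈ part (cocharT D (∑ i ∈ s, lam (b i) • (b.coord i).toAddMonoidHom)) ρ (∑ i ∈ s, lam (b i) * n i) := by
    intro s
    induction s using Finset.induction_on with
    | empty => rw [Finset.sum_empty, Finset.sum_empty]; exact mem_part_zero D ρ v
    | insert a s ha ih =>
      rw [Finset.sum_insert ha, Finset.sum_insert ha]
      exact part_add D ρ (part_zsmul D ρ (h a) _) ih
  have e1 : ∑ i, lam (b i) • (b.coord i).toAddMonoidHom = lam := AddMonoidHom.ext fun m => by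
    conv_rhs => rw [← b.sum_repr m, map_sum]
    rw [AddMonoidHom.finsetSum_apply]
    exact Finset.sum_congr rfl fun i _ => by
      rw [map_zsmul, AddMonoidHom.smul_apply, smul_eq_mul, smul_eq_mul, mul_comm]
      rfl
  have h2 := key Finset.univ
  rw [e1] at h2
  convert h2 using 2
  rw [map_sum]
  exact Finset.sum_congr rfl fun i _ => by rw [map_zsmul, smul_eq_mul, mul_comm]

variable (hcomm : ∀ (X : Over (Spec (CommRingCat.of k))) (a c : X ⟶ D.T), a * c = c * a) [IsAlgClosed k]
  [IsAffine D.T.left] [Smooth D.T.hom]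

include hcomm in
theorem span_isWt : Submodule.span k {v : V | ∃ q, IsWt D ρ v q} = ⊤ := by
  classical
  let b := Module.Free.chooseBasis ℤ D.M
  let L := fun i => cocharT D (b.coord i).toAddMonoidHom
  have key : ∀ s : Finset (Module.Free.ChooseBasisIndex ℤ D.M), ∀ v : V,
      v ∈ Submodule.span k {w : V | ∃ n : Module.Free.ChooseBasisIndex ℤ D.M → ℤ,
        ∀ i ∈ s, w ∈ part (L i) ρ (n i)} := by
    intro s
    induction s using Finset.induction_on with
    | empty => exact fun v => Submodule.subset_span ⟨0, fun i hi => absurd hi (Finset.notMem_empty i)⟩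
    | insert a s ha ih =>
      intro v
      refine Submodule.span_le.2 ?_ (ih v)
      rintro w ⟨n, hn⟩
      obtain ⟨S, hS, -⟩ := exists_support (L a) ρ w
      rw [SetLike.mem_coe, ← sum_proj (L a) ρ hS]
      refine Submodule.sum_mem _ fun j _ => Submodule.subset_span ⟨Function.update n a j, fun i hi => ?_⟩
      rcases Finset.mem_insert.1 hi with rfl | hi'
      · rw [Function.update_self]; exact proj_mem _ ρ j w
      · rw [Function.update_of_ne (fun h => ha (by subst h; exact hi'))]
        exact proj_mem_part hcomm (L i) (L a) ρ (hn i hi') j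
  rw [eq_top_iff]
  intro v _
  refine Submodule.span_mono ?_ (key Finset.univ v)
  rintro w ⟨n, hn⟩
  exact ⟨_, isWt_of_coords D ρ n fun i => hn i (Finset.mem_univ i)⟩

include hcomm in
theorem exists_wt_basis [Module.Finite k V] :
    ∃ (J : Type u) (_ : Fintype J) (_ : DecidableEq J) (e : Module.Basis J k V) (q : J → D.M),
      ∀ i, IsWt D ρ (e i) (q i) := by
  classical
  obtain ⟨s, hs, hspan, hli⟩ := exists_linearIndependent k {v : V | ∃ q, IsWt D ρ v q}
  let e : Module.Basis s k V := Module.Basis.mk hli (by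
    rw [Subtype.range_coe_subtype, Set.ofPred_mem_eq, hspan, span_isWt D ρ hcomm])
  haveI : Fintype s := FiniteDimensional.fintypeBasisIndex e
  choose q hμ using fun i : s => hs i.2
  exact ⟨s, inferInstance, inferInstance, e, q, fun i => by rw [Module.Basis.mk_apply]; exact hμ i⟩

end Groth.L16.HwFun
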